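import Mathlib
import Cfsg.Agent.Lib.Glauberman.Step
import Cfsg.Agent.Lib.Chars.Ops
import Cfsg.Agent.Lib.Clifford.Correspondence

/-!
# The Glauberman correspondence for an involutory automorphism of a group of odd order
-/

set_option autoImplicit false

namespace Cfsg.Agent.Lib.ParityCorr

open Cfsg
open Cfsg.Agent.Lib
open Cfsg.Agent.Lib.Glauberman
open scoped ComplexConjugate

universe u v

/-- Multiplicities are unchanged by transport along an isomorphism. -/
theorem charMult_equiv {X : Type u} {Y : Type v} [Group X] [Group Y] {A : Subgroup X}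
    {B : Subgroup Y} [Finite A] [Finite B] (e : A ≃* B) (φ ψ : B → ℂ) :
    charMult (fun a => φ (e a)) (fun a => ψ (e a)) = charMult φ ψ := by
  letI := Fintype.ofFinite A
  letI := Fintype.ofFinite B
  unfold charMult
  exact congrArg (fun z : ℂ => ⌊z.re⌋₊) (Clifford.classInner_comp_equiv e φ ψ)

theorem exists_glauberman_two {G : Type u} [Group G] [Finite G] (hodd : Odd (Nat.card G))
    (τ : G ≃* G) (hτ : ∀ g, τ (τ g) = g) (H : Subgroup G) (hH : ∀ g, g ∈ H ↔ τ g = g) :
    ∃ f : IrrCharacter H → IrrCharacter G,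
      (∀ χ : IrrCharacter G, (∀ g, (χ : G → ℂ) (τ g) = (χ : G → ℂ) g) → ∃ β, f β = χ) ∧
      (∀ β g, (f β : G → ℂ) (τ g) = (f β : G → ℂ) g) ∧
      ∀ β γ : IrrCharacter H,
        Odd (charMult (Clifford.resFun H (f β : G → ℂ)) (γ : H → ℂ)) ↔ γ = β := by
  classical
  let A : Subgroup (MulAut G) := Subgroup.zpowers τ
  haveI : Finite (MulAut G) := Finite.of_injective (fun e : MulAut G => (e : G → G))
    fun _ _ h => MulEquiv.ext (congrFun h)
  let φ : A →* MulAut G := A.subtype
  haveI : Finite (G ⋊[φ] A) := Finite.of_equiv (G × A) SemidirectProduct.equivProd.symm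
  let inl : G →* G ⋊[φ] A := SemidirectProduct.inl
  have hinl : Function.Injective inl := SemidirectProduct.inl_injective
  let G₂ : Subgroup (G ⋊[φ] A) := inl.range
  let C₂ : Subgroup (G ⋊[φ] A) := H.map inl
  let eG : G ≃* G₂ := MonoidHom.ofInjective hinl
  let eC : H ≃* C₂ := H.equivMapOfInjective inl hinl
  let a : A := ⟨τ, Subgroup.mem_zpowers τ⟩
  let s : G ⋊[φ] A := SemidirectProduct.inr a
  have hconj : ∀ g, s * inl g * s⁻¹ = inl (τ g) := fun g => by
    have h := (SemidirectProduct.inl_aut (φ := φ) a g).symm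
    rw [map_inv] at h
    exact h
  have hs : Normalises s G₂ := normalises_of_mem fun x hx => by
    obtain ⟨g, rfl⟩ := hx
    exact ⟨τ g, (hconj g).symm⟩
  have ha2 : a ^ 2 = 1 := Subtype.ext (MulEquiv.ext fun g => by
    show (τ ^ 2) g = g
    rw [pow_two]; exact hτ g)
  have hsp : ∀ g ∈ G₂, s ^ 2 * g = g * s ^ 2 := fun g _ => by
    rw [← map_pow, ha2, map_one, one_mul, mul_one]
  haveI : Fact (Nat.Prime 2) := ⟨Nat.prime_two⟩
  have hpG : ¬ 2 ∣ Nat.card G₂ := by
    rw [← Nat.card_congr eG.toEquiv]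
    exact hodd.not_two_dvd_nat
  have hCG : C₂ ≤ G₂ := by
    rintro _ ⟨h, -, rfl⟩
    exact ⟨h, rfl⟩
  have hC : ∀ c, c ∈ G₂ → (c ∈ C₂ ↔ s * c = c * s) := by
    rintro _ ⟨g, rfl⟩
    rw [Subgroup.mem_map_iff_mem hinl, hH, ← mul_inv_eq_iff_eq_mul, hconj, hinl.eq_iff]
  obtain ⟨f, -, hfinv, hfsurj, hfmult⟩ := exists_step_map hs hsp hpG hCG hC
  let F : IrrCharacter H → IrrCharacter G := fun β =>
    Chars.irrCongr eG (f ((Chars.irrCongr eC).symm β))
  have hFapp : ∀ (δ : IrrCharacter C₂) g, (Chars.irrCongr eG (f δ) : G → ℂ) g =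
      (f δ : G₂ → ℂ) (eG g) := fun δ g => rfl
  refine ⟨F, fun χ hχ => ?_, fun β g => ?_, fun β γ => ?_⟩
  · obtain ⟨δ, hδ⟩ := hfsurj ((Chars.irrCongr eG).symm χ) (by
      intro t ht x x' hx
      have key : ∀ g, ((Chars.irrCongr eG).symm χ : G₂ → ℂ) (eG g) = (χ : G → ℂ) g := fun g =>
        congrArg (fun c : IrrCharacter G => (c : G → ℂ) g) ((Chars.irrCongr eG).apply_symm_apply χ)
      obtain ⟨g, rfl⟩ := eG.surjective x
      obtain ⟨k, rfl⟩ := ht
      have hk : ∀ n : ℕ, ∀ g : G, ∀ x' : G₂, (x' : G ⋊[φ] A) = s ^ n * inl g * (s ^ n)⁻¹ →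
          ((Chars.irrCongr eG).symm χ : G₂ → ℂ) x' = (χ : G → ℂ) g := by
        intro n
        induction n with
        | zero =>
          intro g x' hx'
          have hx'' : (x' : G ⋊[φ] A) = inl g := by simpa using hx'
          rw [show x' = eG g from Subtype.ext hx'']
          exact key g
        | succ n ih =>
          intro g x' hx'
          rw [← hχ g]
          refine ih (τ g) x' ?_
          rw [hx', ← hconj, pow_succ]
          simp [mul_assoc]
      obtain ⟨n, hn⟩ := (mem_powers_iff_mem_zpowers (x := s) (y := s ^ k)).2 ⟨k, rfl⟩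
      have hn' : s ^ n = s ^ k := hn
      rw [key]
      exact hk n g x' (by rw [hn']; exact hx))
    refine ⟨Chars.irrCongr eC δ, ?_⟩
    show Chars.irrCongr eG (f ((Chars.irrCongr eC).symm (Chars.irrCongr eC δ))) = χ
    rw [Equiv.symm_apply_apply, hδ, Equiv.apply_symm_apply]
  · rw [hFapp, hFapp]
    exact hfinv _ s (Subgroup.mem_zpowers s) (eG g) (eG (τ g)) (hconj g).symm
  · set δ := (Chars.irrCongr eC).symm β
    set ε := (Chars.irrCongr eC).symm γ
    have hmul : charMult (Clifford.resFun H (F β : G → ℂ)) (γ : H → ℂ) =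
        charMult (resSub hCG (f δ : G₂ → ℂ)) (ε : C₂ → ℂ) := by
      rw [← charMult_equiv eC (resSub hCG (f δ : G₂ → ℂ)) (ε : C₂ → ℂ)]
      congr 1
      exact (congrArg (fun c : IrrCharacter H => (c : H → ℂ))
        ((Chars.irrCongr eC).apply_symm_apply γ)).symm
    obtain ⟨h1, h2⟩ := hfmult δ
    rw [hmul]
    refine ⟨fun hodd' => ?_, fun h => ?_⟩
    · by_contra hne
      exact hodd'.not_two_dvd_nat (h2 ε fun h => hne ((Chars.irrCongr eC).symm.injective h))
    · subst h
      rw [← Int.odd_coe_nat, Int.odd_iff]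
      rcases h1 with h1 | h1 <;> exact h1

end Cfsg.Agent.Lib.ParityCorr
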