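import Mathlib
import Cfsg.Agent.Lib.PGroupAut.BaerTrick

/-!
# The twisting automorphism of a section of class two

`K` has class two modulo nothing: its commutators lie in the central subgroup `Z`, and a coprime
group of operators `S` has no fixed points in `K` outside `Z` and fixes `H` pointwise, `G = K H`.
The automorphism `τ` inverts `K ⧸ Z`, fixes `H` and commutes with `S`.
-/

set_option autoImplicit false

namespace Cfsg.Agent.Lib.ParityCorr

open Cfsg.Agent.Lib
open scoped commutatorElement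
open PGroupAut

universe u v

variable {G : Type u} [Group G] {S : Type v} [Group S]

/-- The data of the central case. -/
structure CoreData (σ : S →* MulAut G) (K Z H : Subgroup G) : Prop where
  odd : Odd (Nat.card G)
  cop : (Nat.card S).Coprime (Nat.card G)
  central : ∀ g : G, ∀ z ∈ Z, g * z = z * g
  ZK : Z ≤ K
  ZH : Z ≤ H
  normal : K.Normal
  comm : ∀ a ∈ K, ∀ b ∈ K, ⁅a, b⁆ ∈ Z
  KS : ∀ s, ∀ k ∈ K, σ s k ∈ K
  fixK : ∀ k ∈ K, (∀ s, σ s k = k) → k ∈ Z
  fixH : ∀ s, ∀ h ∈ H, σ s h = h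
  KH : ∀ g : G, ∃ k ∈ K, ∃ h ∈ H, g = k * h

variable {σ : S →* MulAut G} {K Z H : Subgroup G}

namespace CoreData

theorem mem_Z (d : CoreData σ K Z H) {x : G} (hK : x ∈ K) (hH : x ∈ H) : x ∈ Z :=
  d.fixK x hK fun s => d.fixH s x hH

theorem baer [Finite G] (d : CoreData σ K Z H) : BaerData K (Nat.card K / 2 + 1) where
  mem_center a b := Subgroup.mem_center_iff.2 fun c => Subtype.ext
    (d.central c _ (d.comm a a.2 b b.2))
  pow_eq a b := by
    have hd : Odd (Nat.card K) := d.odd.of_dvd_nat K.card_subgroup_dvd_card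
    obtain ⟨k, hk⟩ := hd
    rw [show 2 * (Nat.card K / 2 + 1) = Nat.card K + 1 by omega, pow_succ, pow_card_eq_one',
      one_mul]

/-- The operators on `K`. -/
def act (d : CoreData σ K Z H) (s : S) : MulAut K where
  toFun k := ⟨σ s k, d.KS s k k.2⟩
  invFun k := ⟨σ s⁻¹ k, d.KS s⁻¹ k k.2⟩
  left_inv k := Subtype.ext (by simp [map_inv])
  right_inv k := Subtype.ext (by simp [map_inv])
  map_mul' a b := Subtype.ext (map_mul (σ s) _ _)

@[simp] theorem act_coe (d : CoreData σ K Z H) (s : S) (k : K) : (d.act s k : G) = σ s k := rfl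

variable [Finite G] [Fintype S]

/-- The product of the conjugates, for the abelian law. -/
noncomputable def orbitHom (d : CoreData σ K Z H) : Baer d.baer →* Baer d.baer :=
  ∏ s : S, Baer.lift d.baer (d.act s)

theorem orbitHom_apply (d : CoreData σ K Z H) (x : Baer d.baer) :
    d.orbitHom x = ∏ s : S, Baer.lift d.baer (d.act s) x := MonoidHom.finsetProd_apply _ _ _

theorem exists_expo (d : CoreData σ K Z H) :
    ∃ e : ℕ, ∀ k : G, k ^ (Fintype.card S * e) = k := by
  set N := Nat.card G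
  have hc : (Fintype.card S).Coprime N := by rw [Fintype.card_eq_nat_card]; exact d.cop
  have h := Nat.ModEq.pow_totient hc
  have ht : 0 < N.totient := Nat.totient_pos.2 Nat.card_pos
  refine ⟨Fintype.card S ^ (N.totient - 1), fun k => ?_⟩
  rw [← pow_succ', show N.totient - 1 + 1 = N.totient by omega, ← pow_mod_natCard, h,
    pow_mod_natCard, pow_one]

/-- The exponent inverting the order of `S`. -/
noncomputable def expo (d : CoreData σ K Z H) : ℕ := d.exists_expo.choose

theorem pow_expo (d : CoreData σ K Z H) (k : G) : k ^ (Fintype.card S * d.expo) = k :=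
  d.exists_expo.choose_spec k

/-- The average of the conjugates. -/
noncomputable def avg (d : CoreData σ K Z H) : Baer d.baer →* Baer d.baer := d.orbitHom ^ d.expo

theorem avg_apply (d : CoreData σ K Z H) (x : Baer d.baer) :
    d.avg x = d.orbitHom x ^ d.expo := rfl

theorem avg_act (d : CoreData σ K Z H) (t : S) (x : Baer d.baer) :
    d.avg (Baer.lift d.baer (d.act t) x) = d.avg x := by
  rw [avg_apply, avg_apply, orbitHom_apply, orbitHom_apply]
  congr 1
  refine Fintype.prod_equiv (Equiv.mulRight t) _ _ fun s => Baer.ext (Subtype.ext ?_)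
  show σ s (σ t x.val) = σ (s * t) x.val
  rw [map_mul]; rfl

theorem act_avg (d : CoreData σ K Z H) (t : S) (x : Baer d.baer) :
    Baer.lift d.baer (d.act t) (d.avg x) = d.avg x := by
  rw [avg_apply, map_pow, orbitHom_apply, map_prod]
  congr 1
  refine Fintype.prod_equiv (Equiv.mulLeft t) _ _ fun s => Baer.ext (Subtype.ext ?_)
  show σ t (σ s x.val) = σ (t * s) x.val
  rw [map_mul]; rfl

theorem avg_mem (d : CoreData σ K Z H) (x : Baer d.baer) : ((d.avg x).val : G) ∈ Z :=
  d.fixK _ (d.avg x).val.2 fun s =>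
    congrArg (fun y : Baer d.baer => (y.val : G)) (d.act_avg s x)

theorem avg_of_mem (d : CoreData σ K Z H) (x : Baer d.baer) (hx : (x.val : G) ∈ Z) :
    d.avg x = x := by
  have h : ∀ s : S, Baer.lift d.baer (d.act s) x = x := fun s =>
    Baer.ext (Subtype.ext (d.fixH s _ (d.ZH hx)))
  rw [avg_apply, orbitHom_apply, Finset.prod_congr rfl (fun s _ => h s), Finset.prod_const,
    Finset.card_univ, ← pow_mul]
  exact Baer.ext (by rw [Baer.pow_val]; exact Subtype.ext (d.pow_expo _))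

/-- The average commutes with automorphisms commuting with the operators. -/
theorem avg_map (d : CoreData σ K Z H) (f : MulAut K)
    (hf : ∀ s k, f (d.act s k) = d.act s (f k)) (x : Baer d.baer) :
    d.avg (Baer.lift d.baer f x) = Baer.lift d.baer f (d.avg x) := by
  rw [avg_apply, avg_apply, orbitHom_apply, map_pow, orbitHom_apply, map_prod]
  congr 1
  exact Finset.prod_congr rfl fun s _ => Baer.ext (hf s x.val).symm

/-- The central component of an element of `K`. -/
noncomputable def zc (d : CoreData σ K Z H) (k : K) : G := ((d.avg ⟨k⟩).val : G)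

theorem zc_mem (d : CoreData σ K Z H) (k : K) : d.zc k ∈ Z := d.avg_mem _

theorem zc_of_mem (d : CoreData σ K Z H) (k : K) (hk : (k : G) ∈ Z) : d.zc k = k := by
  show ((d.avg ⟨k⟩).val : G) = k
  rw [d.avg_of_mem ⟨k⟩ hk]

theorem zc_act (d : CoreData σ K Z H) (s : S) (k : K) : d.zc (d.act s k) = d.zc k :=
  congrArg (fun y : Baer d.baer => (y.val : G)) (d.avg_act s ⟨k⟩)

theorem zc_conj (d : CoreData σ K Z H) {h : G} (hh : h ∈ H) (k k' : K)
    (hk : (k' : G) = h * k * h⁻¹) : d.zc k' = d.zc k := by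
  haveI := d.normal
  let f : MulAut K := MulAut.conjNormal h
  have hf : ∀ s k, f (d.act s k) = d.act s (f k) := fun s k => Subtype.ext (by
    show h * σ s (k : G) * h⁻¹ = σ s (f k : G)
    rw [show (f k : G) = h * k * h⁻¹ from MulAut.conjNormal_apply h k, map_mul, map_mul, map_inv,
      d.fixH s h hh])
  have h1 := d.avg_map f hf ⟨k⟩
  have h2 : Baer.lift d.baer f (⟨k⟩ : Baer d.baer) = ⟨k'⟩ :=
    Baer.ext (Subtype.ext ((MulAut.conjNormal_apply h k).trans hk.symm))
  rw [h2] at h1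
  show ((d.avg ⟨k'⟩).val : G) = _
  rw [h1]
  show (f (d.avg ⟨k⟩).val : G) = d.zc k
  rw [MulAut.conjNormal_apply]
  show h * d.zc k * h⁻¹ = d.zc k
  rw [d.central h _ (d.zc_mem k), mul_inv_cancel_right]

/-- A homomorphism into an abelian group that is invariant under the operators does not see the
difference between an element and its central component. -/
theorem hom_zc (d : CoreData σ K Z H) {A : Type*} [CommGroup A] (R : Subgroup K) (μ : R →* A)
    (hR : ∀ s, ∀ a ∈ R, d.act s a ∈ R)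
    (hμ : ∀ s (a : R), μ ⟨d.act s a, hR s a a.2⟩ = μ a) (a : R) :
    ∃ h : (d.avg ⟨(a : K)⟩).val ∈ R, μ ⟨_, h⟩ = μ a := by
  let Rb : Subgroup (Baer d.baer) :=
    { carrier := {x | x.val ∈ R}
      one_mem' := R.one_mem
      mul_mem' := fun {x y} hx hy => R.mul_mem (R.mul_mem hx hy) (R.pow_mem (by
        rw [commutatorElement_def]
        exact R.mul_mem (R.mul_mem (R.mul_mem hy hx) (R.inv_mem hy)) (R.inv_mem hx)) _)
      inv_mem' := fun hx => R.inv_mem hx }
  let μb : Rb →* A := MonoidHom.mk' (fun x => μ ⟨x.1.val, x.2⟩) fun x y => by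
    let a' : R := ⟨x.1.val, x.2⟩
    let b' : R := ⟨y.1.val, y.2⟩
    have : (⟨(x * y).1.val, (x * y).2⟩ : R) = a' * b' * ⁅b', a'⁆ ^ (Nat.card K / 2 + 1) :=
      Subtype.ext rfl
    rw [this, map_mul, map_pow, map_commutatorElement, commutatorElement_eq_one_iff_mul_comm.2
      (mul_comm _ _), one_pow, mul_one, map_mul]
  let y : Rb := (∏ s : S, (⟨⟨d.act s a⟩, hR s a a.2⟩ : Rb)) ^ d.expo
  have hy : (y : Baer d.baer) = d.avg ⟨(a : K)⟩ := by
    show Rb.subtype y = _
    rw [avg_apply, orbitHom_apply, map_pow, map_prod]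
    rfl
  have hmem : (d.avg ⟨(a : K)⟩).val ∈ R := hy ▸ y.2
  refine ⟨hmem, ?_⟩
  have h1 : μb y = μ a := by
    rw [map_pow, map_prod, Finset.prod_congr rfl (fun s _ => (show μb ⟨⟨d.act s a⟩, hR s a a.2⟩ =
      μ a from hμ s a)), Finset.prod_const, Finset.card_univ, ← pow_mul, ← map_pow]
    exact congrArg μ (Subtype.ext (Subtype.ext (d.pow_expo _)))
  rw [← h1]
  exact congrArg μ (Subtype.ext (congrArg Baer.val hy).symm)

/-- The twist on `K`, for the abelian law. -/
noncomputable def tauHom (d : CoreData σ K Z H) : Baer d.baer →* Baer d.baer :=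
  (MonoidHom.id (Baer d.baer))⁻¹ * d.avg ^ 2

theorem tauHom_apply (d : CoreData σ K Z H) (x : Baer d.baer) :
    d.tauHom x = x⁻¹ * d.avg x ^ 2 := rfl

theorem avg_tauHom (d : CoreData σ K Z H) (x : Baer d.baer) : d.avg (d.tauHom x) = d.avg x := by
  rw [tauHom_apply, map_mul, map_inv, map_pow, d.avg_of_mem _ (d.avg_mem x), pow_two,
    inv_mul_cancel_left]

theorem tauHom_tauHom (d : CoreData σ K Z H) (x : Baer d.baer) : d.tauHom (d.tauHom x) = x := by
  rw [tauHom_apply (x := d.tauHom x), d.avg_tauHom, tauHom_apply, mul_inv_rev, inv_inv,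
    mul_comm ((d.avg x ^ 2)⁻¹) x, mul_assoc, inv_mul_cancel, mul_one]

/-- The twist on `K`. -/
noncomputable def tauK (d : CoreData σ K Z H) (k : K) : K := (d.tauHom ⟨k⟩).val

theorem tauK_eq (d : CoreData σ K Z H) (k : K) : (d.tauK k : G) = (k : G)⁻¹ * d.zc k ^ 2 := by
  have hc : (d.avg ⟨k⟩ ^ 2).val ∈ Subgroup.center K := by
    rw [Baer.pow_val]
    exact pow_mem (Subgroup.mem_center_iff.2 fun g =>
      Subtype.ext (d.central g _ (d.avg_mem _))) 2
  show ((d.tauHom ⟨k⟩).val : G) = _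
  rw [tauHom_apply, Baer.mul_val_of_mem_center hc, Baer.pow_val]
  rfl

theorem tauK_tauK (d : CoreData σ K Z H) (k : K) : d.tauK (d.tauK k) = k :=
  congrArg Baer.val (d.tauHom_tauHom ⟨k⟩)

theorem zc_tauK (d : CoreData σ K Z H) (k : K) : d.zc (d.tauK k) = d.zc k :=
  congrArg (fun y : Baer d.baer => (y.val : G)) (d.avg_tauHom ⟨k⟩)

theorem tauK_of_mem (d : CoreData σ K Z H) (k : K) (hk : (k : G) ∈ Z) : d.tauK k = k :=
  Subtype.ext (by rw [tauK_eq, d.zc_of_mem k hk, pow_two, inv_mul_cancel_left])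

theorem commutator_tauK (d : CoreData σ K Z H) (a b : K) : ⁅d.tauK a, d.tauK b⁆ = ⁅a, b⁆ := by
  haveI := d.normal
  have key : ∀ a : K, ∀ c : K, ∃ w : K, d.tauK a = a⁻¹ * w ∧ ⁅w, c⁆ = 1 ∧ ⁅c, w⁆ = 1 := by
    intro a c
    refine ⟨⟨d.zc a ^ 2, d.ZK (Z.pow_mem (d.zc_mem a) 2)⟩, Subtype.ext (d.tauK_eq a), ?_, ?_⟩ <;>
      rw [commutatorElement_eq_one_iff_mul_comm] <;> refine Subtype.ext ?_
    · exact (d.central (c : G) _ (Z.pow_mem (d.zc_mem a) 2)).symm
    · exact d.central (c : G) _ (Z.pow_mem (d.zc_mem a) 2)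
  obtain ⟨w, hw, hw1, -⟩ := key a (d.tauK b)
  rw [hw, d.baer.mul_left, hw1, mul_one]
  obtain ⟨v, hv, -, hv2⟩ := key b a⁻¹
  rw [hv, d.baer.mul_right, hv2, mul_one]
  have hone : ∀ c : K, ⁅(1 : K), c⁆ = 1 ∧ ⁅c, (1 : K)⁆ = 1 := fun c => by
    constructor <;> simp [commutatorElement_def]
  have h1 : ∀ x y : K, ⁅x⁻¹, y⁆ = ⁅x, y⁆⁻¹ := fun x y =>
    eq_inv_of_mul_eq_one_left (by rw [← d.baer.mul_left, inv_mul_cancel]; exact (hone y).1)
  have h2 : ∀ x y : K, ⁅x, y⁻¹⁆ = ⁅x, y⁆⁻¹ := fun x y =>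
    eq_inv_of_mul_eq_one_left (by rw [← d.baer.mul_right, inv_mul_cancel]; exact (hone x).2)
  rw [h1, h2, inv_inv]

theorem tauK_mul (d : CoreData σ K Z H) (a b : K) : d.tauK (a * b) = d.tauK a * d.tauK b := by
  set m := Nat.card K / 2 + 1
  let w : K := ⁅b, a⁆ ^ m
  have hwZ : (w : G) ∈ Z := by
    rw [show (w : G) = ((⁅b, a⁆ : K) : G) ^ m from rfl]
    exact Z.pow_mem (d.comm b b.2 a a.2) m
  have h1 : (⟨a⟩ * ⟨b⟩ : Baer d.baer) = (⟨a * b⟩ * ⟨w⟩ : Baer d.baer) := by
    refine Baer.ext ?_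
    rw [Baer.mul_val, Baer.mul_val_of_mem_center]
    exact pow_mem (d.baer.mem_center _ _) _
  have h2 : d.tauHom ⟨a⟩ * d.tauHom ⟨b⟩ = d.tauHom ⟨a * b⟩ * d.tauHom ⟨w⟩ := by
    rw [← map_mul, ← map_mul, h1]
  have h3 := congrArg Baer.val h2
  rw [show d.tauHom ⟨w⟩ = ⟨w⟩ from Baer.ext (d.tauK_of_mem w hwZ), Baer.mul_val,
    Baer.mul_val_of_mem_center (pow_mem (d.baer.mem_center _ _) _)] at h3
  change d.tauK a * d.tauK b * ⁅d.tauK b, d.tauK a⁆ ^ m = d.tauK (a * b) * ⁅b, a⁆ ^ m at h3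
  rw [d.commutator_tauK] at h3
  exact (mul_right_cancel h3).symm

end CoreData

end Cfsg.Agent.Lib.ParityCorr
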