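import Mathlib
import Cfsg.Agent.Lib.ParityCorr.Twist
import Cfsg.Agent.Lib.Clifford.Basic
import Cfsg.Agent.Lib.Chars.Completeness

/-!
# The invariant character of the section, and the twist on the whole group
-/

set_option autoImplicit false

namespace Cfsg.Agent.Lib.ParityCorr

open Cfsg
open Cfsg.Agent.Lib
open scoped commutatorElement

universe u v

variable {G : Type u} [Group G] [Finite G] {S : Type v} [Group S] [Fintype S]
variable {σ : S →* MulAut G} {K Z H : Subgroup G}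

namespace CoreData

/-- Commutators as elements of `Z`. -/
def commZ (d : CoreData σ K Z H) (a b : K) : Z :=
  ⟨((⁅a, b⁆ : K) : G), d.comm a a.2 b b.2⟩

/-- The elements whose commutators are in the kernel of `l`. -/
noncomputable def radical (d : CoreData σ K Z H) (l : Z →* ℂˣ) : Subgroup K where
  carrier := {a | ∀ b, l (d.commZ a b) = 1}
  one_mem' b := by
    rw [show d.commZ 1 b = 1 from Subtype.ext (by simp [commZ, commutatorElement_def]), map_one]
  mul_mem' := fun {x y} hx hy b => by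
    rw [show d.commZ (x * y) b = d.commZ x b * d.commZ y b from
      Subtype.ext (congrArg (fun w : K => (w : G)) (d.baer.mul_left x y b) :), map_mul, hx b, hy b, one_mul]
  inv_mem' := fun {x} hx b => by
    have h : d.commZ x⁻¹ b * d.commZ x b = 1 := Subtype.ext (by
      show ((⁅x⁻¹, b⁆ : K) : G) * ((⁅x, b⁆ : K) : G) = 1
      rw [← Subgroup.coe_mul, ← d.baer.mul_left, inv_mul_cancel]
      simp [commutatorElement_def])
    have h' := congrArg l h
    rw [map_mul, map_one, hx b, mul_one] at h'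
    exact h'

theorem commZ_act (d : CoreData σ K Z H) (s : S) (a b : K) :
    d.commZ (d.act s a) (d.act s b) = d.commZ a b := Subtype.ext (by
  have h := d.fixH s _ (d.ZH (d.comm a a.2 b b.2))
  rw [map_commutatorElement] at h
  exact h)

theorem commZ_tauK (d : CoreData σ K Z H) (a b : K) :
    d.commZ (d.tauK a) (d.tauK b) = d.commZ a b :=
  Subtype.ext (congrArg (fun w : K => (w : G)) (d.commutator_tauK a b) :)

theorem act_mem_radical (d : CoreData σ K Z H) (l : Z →* ℂˣ) (s : S) {a : K}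
    (ha : a ∈ d.radical l) : d.act s a ∈ d.radical l := fun b => by
  rw [← (d.act s).apply_symm_apply b, commZ_act]
  exact ha _

theorem tauK_mem_radical (d : CoreData σ K Z H) (l : Z →* ℂˣ) {a : K}
    (ha : a ∈ d.radical l) : d.tauK a ∈ d.radical l := fun b => by
  rw [← d.tauK_tauK b, commZ_tauK]
  exact ha _

theorem conj_mem_radical (d : CoreData σ K Z H) (l : Z →* ℂˣ) {h : G} (k k' : K)
    (hk : (k' : G) = h * k * h⁻¹) (ha : k ∈ d.radical l) : k' ∈ d.radical l := fun b => by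
  have hbK : h⁻¹ * (b : G) * h ∈ K := by
    simpa using d.normal.conj_mem (b : G) b.2 h⁻¹
  have e : d.commZ k' b = d.commZ k ⟨_, hbK⟩ := Subtype.ext (by
    show ⁅(k' : G), (b : G)⁆ = ⁅(k : G), h⁻¹ * b * h⁆
    have hc : ∀ z ∈ Z, h * z * h⁻¹ = z := fun z hz => by
      rw [d.central h z hz, mul_inv_cancel_right]
    rw [← hc _ (d.comm k k.2 _ hbK), hk]
    simp only [commutatorElement_def]
    group)
  rw [e]; exact ha _

theorem tau_mem_radical_iff (d : CoreData σ K Z H) (l : Z →* ℂˣ) (a : K) :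
    d.tauK a ∈ d.radical l ↔ a ∈ d.radical l :=
  ⟨fun h => d.tauK_tauK a ▸ d.tauK_mem_radical l h, d.tauK_mem_radical l⟩

variable {l : Z →* ℂˣ}

/-- An invariant character over `l` is supported on the radical and is given there by `l`. -/
theorem char_formula (d : CoreData σ K Z H) (φ : IrrCharacter K)
    (hl : ∀ z : Z, (φ : K → ℂ) ⟨z, d.ZK z.2⟩ = (φ : K → ℂ) 1 * (l z : ℂ))
    (hinv : ∀ s k, (φ : K → ℂ) (d.act s k) = (φ : K → ℂ) k) (a : K) :
    (a ∉ d.radical l → (φ : K → ℂ) a = 0) ∧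
      (a ∈ d.radical l → (φ : K → ℂ) a = (φ : K → ℂ) 1 * (l ⟨d.zc a, d.zc_mem a⟩ : ℂ)) := by
  have h1 := Chars.irr_apply_one_ne_zero φ
  obtain ⟨n, ρ, hρ, hφ⟩ := φ.2
  haveI := hρ
  have hval : ∀ k, (φ : K → ℂ) k = LinearMap.trace ℂ _ (ρ k) := fun k => (congrFun hφ k).symm
  -- central elements act as scalars
  have hscal : ∀ (k : K) (c : ℂ), ρ k = c • 1 → (φ : K → ℂ) k = c * (φ : K → ℂ) 1 := fun k c h => by
    rw [hval, hval, h, map_smul, smul_eq_mul, map_one ρ]
  have hZ : ∀ z : Z, ρ ⟨z, d.ZK z.2⟩ = (l z : ℂ) • 1 := fun z => by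
    obtain ⟨c, hc⟩ := Clifford.schur_scalar ρ (ρ ⟨z, d.ZK z.2⟩) fun g => by
      rw [← map_mul, ← map_mul, show (⟨z, d.ZK z.2⟩ : K) * g = g * ⟨z, d.ZK z.2⟩ from
        Subtype.ext (d.central (g : G) z z.2).symm]
    have h2 := hscal _ c hc
    rw [hl, mul_comm] at h2
    rw [hc, mul_right_cancel₀ h1 h2]
  have hcomm : ∀ x y : K, ρ (x * y) = (l (d.commZ x y) : ℂ) • ρ (y * x) := fun x y => by
    have e : x * y = (⟨(d.commZ x y : G), d.ZK (d.commZ x y).2⟩ : K) * (y * x) := Subtype.ext (by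
      show (x : G) * y = ⁅(x : G), (y : G)⁆ * (y * x)
      simp [commutatorElement_def, mul_assoc])
    rw [e, map_mul, hZ, smul_mul_assoc, one_mul]
  refine ⟨fun ha => ?_, fun ha => ?_⟩
  · simp only [radical, Subgroup.mem_mk, Set.mem_setOf_eq] at ha
    obtain ⟨b, hb⟩ := not_forall.1 ha
    have e2 : (φ : K → ℂ) a = (l (d.commZ a b) : ℂ) * (φ : K → ℂ) a := by
      have e1 := congrArg (LinearMap.trace ℂ _) (congrArg (ρ b⁻¹ * ·) (hcomm a b))
      simp only [← map_mul, mul_smul_comm, map_smul, smul_eq_mul, inv_mul_cancel_left] at e1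
      rw [← hval, ← hval] at e1
      have hcl := Chars.irr_isClassFunction φ a b⁻¹
      rw [inv_inv, mul_assoc] at hcl
      rw [hcl] at e1
      exact e1
    by_contra hne
    exact hb (Units.ext (mul_right_cancel₀ hne (by rw [Units.val_one, one_mul]; exact e2.symm)))
  · have hsc : ∀ x : d.radical l, ∃ c : ℂ, ρ (x : K) = c • 1 := fun x =>
      Clifford.schur_scalar ρ (ρ (x : K)) fun g => by
        rw [← map_mul, ← map_mul, hcomm, x.2 g, Units.val_one, one_smul]
    choose c hc using hsc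
    have hc1 : ∀ x : d.radical l, (φ : K → ℂ) (x : K) = c x * (φ : K → ℂ) 1 := fun x => hscal _ _ (hc x)
    have hmul : ∀ x y : d.radical l, c (x * y) = c x * c y := fun x y => by
      refine mul_right_cancel₀ h1 ?_
      rw [← hc1, hval, Subgroup.coe_mul, map_mul, hc x, hc y, smul_mul_smul_comm, one_mul, map_smul,
        smul_eq_mul, hval 1, map_one ρ]
    have hone : c 1 = 1 := mul_right_cancel₀ h1 (by
      rw [one_mul, ← hc1]; rfl)
    let μ : d.radical l →* ℂˣ :=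
      MonoidHom.toHomUnits { toFun := c, map_one' := hone, map_mul' := hmul }
    have hμ : ∀ x, ((μ x : ℂˣ) : ℂ) = c x := fun x => rfl
    obtain ⟨hmem, he⟩ := d.hom_zc (d.radical l) μ (fun s x hx => d.act_mem_radical l s hx)
      (fun s x => Units.ext (mul_right_cancel₀ h1 (by
        rw [hμ, hμ, ← hc1, ← hc1]; exact hinv s x))) ⟨a, ha⟩
    show (φ : K → ℂ) ((⟨a, ha⟩ : d.radical l) : K) = _
    rw [hc1, ← hμ, ← he, hμ, mul_comm]
    congr 1
    refine mul_right_cancel₀ h1 ?_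
    rw [← hc1, mul_comm]
    exact hl ⟨d.zc a, d.zc_mem a⟩

/-- An invariant character over `l` is fixed by the twist and by `H`. -/
theorem char_fixed (d : CoreData σ K Z H) (φ : IrrCharacter K)
    (hl : ∀ z : Z, (φ : K → ℂ) ⟨z, d.ZK z.2⟩ = (φ : K → ℂ) 1 * (l z : ℂ))
    (hinv : ∀ s k, (φ : K → ℂ) (d.act s k) = (φ : K → ℂ) k) :
    (∀ k, (φ : K → ℂ) (d.tauK k) = (φ : K → ℂ) k) ∧
      ∀ h ∈ H, ∀ k k' : K, (k' : G) = h * k * h⁻¹ → (φ : K → ℂ) k' = (φ : K → ℂ) k := by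
  refine ⟨fun k => ?_, fun h hh k k' hk => ?_⟩
  · obtain ⟨z0, r0⟩ := d.char_formula φ hl hinv k
    obtain ⟨z1, r1⟩ := d.char_formula φ hl hinv (d.tauK k)
    by_cases ha : k ∈ d.radical l
    · rw [r0 ha, r1 (d.tauK_mem_radical l ha)]
      exact congrArg (fun z : Z => _ * (l z : ℂ)) (Subtype.ext (d.zc_tauK k))
    · rw [z0 ha, z1 (fun h' => ha ((d.tau_mem_radical_iff l k).1 h'))]
  · obtain ⟨z0, r0⟩ := d.char_formula φ hl hinv k
    obtain ⟨z1, r1⟩ := d.char_formula φ hl hinv k'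
    by_cases ha : k ∈ d.radical l
    · rw [r0 ha, r1 (d.conj_mem_radical l k k' hk ha)]
      exact congrArg (fun z : Z => _ * (l z : ℂ)) (Subtype.ext (d.zc_conj hh k k' hk))
    · rw [z0 ha, z1 (fun h' => ha (d.conj_mem_radical l (h := h⁻¹) k' k (by rw [hk]; group) h'))]

/-- The `K`-part of an element. -/
noncomputable def kPart (d : CoreData σ K Z H) (g : G) : K :=
  ⟨(d.KH g).choose, (d.KH g).choose_spec.1⟩

/-- The `H`-part of an element. -/
noncomputable def hPart (d : CoreData σ K Z H) (g : G) : G :=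
  (d.KH g).choose_spec.2.choose

theorem part_spec (d : CoreData σ K Z H) (g : G) :
    d.hPart g ∈ H ∧ g = (d.kPart g : G) * d.hPart g :=
  (d.KH g).choose_spec.2.choose_spec

/-- The twist on `G`. -/
noncomputable def tauFun (d : CoreData σ K Z H) (g : G) : G := d.tauK (d.kPart g) * d.hPart g

theorem tauFun_mul (d : CoreData σ K Z H) (k : K) {h : G} (hh : h ∈ H) :
    d.tauFun ((k : G) * h) = d.tauK k * h := by
  obtain ⟨h₁H, he⟩ := d.part_spec ((k : G) * h)
  set k₁ := d.kPart ((k : G) * h)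
  set h₁ := d.hPart ((k : G) * h)
  have he' : ((k₁⁻¹ * k : K) : G) = h₁ * h⁻¹ := by
    rw [Subgroup.coe_mul, Subgroup.coe_inv, eq_mul_inv_iff_mul_eq, mul_assoc, he, inv_mul_cancel_left]
  have hz : ((k₁⁻¹ * k : K) : G) ∈ Z :=
    d.mem_Z (k₁⁻¹ * k).2 (he' ▸ H.mul_mem h₁H (H.inv_mem hh))
  have ht : d.tauK k = d.tauK k₁ * (k₁⁻¹ * k) := by
    conv_lhs => rw [← mul_inv_cancel_left k₁ k]
    rw [d.tauK_mul, d.tauK_of_mem _ hz]
  show (d.tauK k₁ : G) * h₁ = _
  rw [ht, Subgroup.coe_mul, he']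
  simp [mul_assoc]

theorem tauK_conj (d : CoreData σ K Z H) {h : G} (hh : h ∈ H) (k k' : K)
    (hk : (k' : G) = h * k * h⁻¹) : (d.tauK k' : G) = h * d.tauK k * h⁻¹ := by
  rw [tauK_eq, tauK_eq, d.zc_conj hh k k' hk, hk]
  have hz := d.central h _ (Z.pow_mem (d.zc_mem k) 2)
  calc (h * (k : G) * h⁻¹)⁻¹ * d.zc k ^ 2 = h * (k : G)⁻¹ * h⁻¹ * d.zc k ^ 2 := by group
    _ = h * (k : G)⁻¹ * (h⁻¹ * d.zc k ^ 2) := by group
    _ = h * (k : G)⁻¹ * (d.zc k ^ 2 * h⁻¹) := by
      rw [d.central h⁻¹ _ (Z.pow_mem (d.zc_mem k) 2)]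
    _ = _ := by group

theorem tauFun_hom (d : CoreData σ K Z H) (g g' : G) :
    d.tauFun (g * g') = d.tauFun g * d.tauFun g' := by
  obtain ⟨k, hk, h, hh, rfl⟩ := d.KH g
  obtain ⟨k', hk', h', hh', rfl⟩ := d.KH g'
  have hc : h * k' * h⁻¹ ∈ K := d.normal.conj_mem _ hk' h
  have e : k * h * (k' * h') = ((⟨k, hk⟩ * ⟨_, hc⟩ : K) : G) * (h * h') := by
    show k * h * (k' * h') = k * (h * k' * h⁻¹) * (h * h')
    group
  rw [e, d.tauFun_mul _ (H.mul_mem hh hh'), d.tauK_mul, Subgroup.coe_mul,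
    d.tauK_conj hh ⟨k', hk'⟩ ⟨_, hc⟩ rfl, show k * h = ((⟨k, hk⟩ : K) : G) * h from rfl,
    d.tauFun_mul _ hh, show k' * h' = ((⟨k', hk'⟩ : K) : G) * h' from rfl, d.tauFun_mul _ hh']
  group

theorem tauFun_tauFun (d : CoreData σ K Z H) (g : G) : d.tauFun (d.tauFun g) = g := by
  obtain ⟨k, hk, h, hh, rfl⟩ := d.KH g
  rw [show k * h = ((⟨k, hk⟩ : K) : G) * h from rfl, d.tauFun_mul _ hh, d.tauFun_mul _ hh,
    d.tauK_tauK]

/-- The twist as an automorphism. -/
noncomputable def tau (d : CoreData σ K Z H) : G ≃* G where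
  toFun := d.tauFun
  invFun := d.tauFun
  left_inv := d.tauFun_tauFun
  right_inv := d.tauFun_tauFun
  map_mul' := d.tauFun_hom

theorem tau_apply (d : CoreData σ K Z H) (k : K) {h : G} (hh : h ∈ H) :
    d.tau ((k : G) * h) = d.tauK k * h := d.tauFun_mul k hh

theorem mem_H_iff (d : CoreData σ K Z H) (g : G) : g ∈ H ↔ d.tau g = g := by
  refine ⟨fun hg => ?_, fun h => ?_⟩
  · have := d.tau_apply 1 hg
    rw [d.tauK_of_mem 1 Z.one_mem] at this
    simpa using this
  · obtain ⟨k, hk, h', hh, rfl⟩ := d.KH g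
    rw [show k * h' = ((⟨k, hk⟩ : K) : G) * h' from rfl, d.tau_apply _ hh,
      mul_left_inj, tauK_eq, inv_mul_eq_iff_eq_mul] at h
    have hsq : (⟨k, hk⟩ : K).1 ^ 2 ∈ Z := by
      rw [pow_two, ← h]
      exact Z.pow_mem (d.zc_mem _) 2
    refine H.mul_mem (d.ZH ?_) hh
    obtain ⟨j, hj⟩ := d.odd
    have e : (k ^ 2) ^ (j + 1) = k := by
      rw [← pow_mul, show 2 * (j + 1) = Nat.card G + 1 by omega, pow_succ, pow_card_eq_one', one_mul]
    exact e ▸ Z.pow_mem hsq _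

theorem tau_sigma (d : CoreData σ K Z H) (s : S) (g : G) : d.tau (σ s g) = σ s (d.tau g) := by
  obtain ⟨k, hk, h, hh, rfl⟩ := d.KH g
  rw [map_mul, d.fixH s h hh, show σ s k * h = (d.act s ⟨k, hk⟩ : G) * h from rfl,
    d.tau_apply _ hh, show k * h = ((⟨k, hk⟩ : K) : G) * h from rfl, d.tau_apply _ hh, map_mul,
    d.fixH s h hh, tauK_eq, tauK_eq, d.zc_act, map_mul, map_inv, act_coe, map_pow,
    d.fixH s _ (d.ZH (d.zc_mem _))]

end CoreData

end Cfsg.Agent.Lib.ParityCorr
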