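import Mathlib
import Cfsg.Agent.Lib.ParityCorr.Section
import Cfsg.Agent.Lib.ParityCorr.Involution
import Cfsg.Agent.Lib.Clifford.Gallagher
import Cfsg.Agent.Lib.CharExt.Characters

/-!
# The parity correspondence over a central character
-/

set_option autoImplicit false

namespace Cfsg.Agent.Lib.ParityCorr

open Cfsg
open Cfsg.Agent.Lib
open Cfsg.Agent.Lib.Glauberman (charMult charMult_spec)
open scoped ComplexConjugate

universe u v

/-- `χ` lies over the linear character `l` of the central subgroup `Z`. -/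
def Over {G : Type u} [Group G] {Z : Subgroup G} (l : Z →* ℂˣ) (χ : G → ℂ) : Prop :=
  ∀ z : Z, χ z = χ 1 * (l z : ℂ)

/-- A constituent of a restriction has the same central character. -/
theorem central_eq_of_constituent {G : Type u} [Group G] [Finite G] {N : Subgroup G} [Fintype N]
    (χ : IrrCharacter G) (φ : IrrCharacter N)
    (h : Cfsg.classInner (Clifford.resFun N (χ : G → ℂ)) (φ : N → ℂ) ≠ 0) (z : N)
    (hz : ∀ g : G, g * (z : G) = (z : G) * g) {c : ℂ} :
    (χ : G → ℂ) z = (χ : G → ℂ) 1 * c ↔ (φ : N → ℂ) z = (φ : N → ℂ) 1 * c := by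
  have hχ1 := Chars.irr_apply_one_ne_zero χ
  have hφ1 := Chars.irr_apply_one_ne_zero φ
  obtain ⟨n, ρ, hρ, hχ⟩ := χ.2
  haveI := hρ
  obtain ⟨m, σ, hσ, hφ⟩ := φ.2
  haveI := hσ
  obtain ⟨a, ha⟩ := Clifford.schur_scalar ρ (ρ (z : G)) fun g => by
    rw [← map_mul, ← map_mul, hz g]
  obtain ⟨b, hb⟩ := Clifford.schur_scalar σ (σ z) fun g => by
    rw [← map_mul, ← map_mul, show z * g = g * z from Subtype.ext (hz (g : G)).symm]
  have hχv : ∀ g, (χ : G → ℂ) ((z : G) * g) = a * (χ : G → ℂ) g := fun g => by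
    rw [← hχ]
    simp only [Representation.character, map_mul, ha, smul_mul_assoc, one_mul, map_smul, smul_eq_mul]
  have hφv : ∀ g, (φ : N → ℂ) (z * g) = b * (φ : N → ℂ) g := fun g => by
    rw [← hφ]
    simp only [Representation.character, map_mul, hb, smul_mul_assoc, one_mul, map_smul, smul_eq_mul]
  have hab : a = b := by
    have e : Cfsg.classInner (Clifford.resFun N (χ : G → ℂ)) (φ : N → ℂ) =
        a * conj b * Cfsg.classInner (Clifford.resFun N (χ : G → ℂ)) (φ : N → ℂ) := by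
      conv_lhs => unfold Cfsg.classInner
      rw [← Equiv.sum_comp (Equiv.mulLeft z)]
      unfold Cfsg.classInner
      rw [← mul_assoc, mul_comm (a * conj b), mul_assoc, Finset.mul_sum (a := a * conj b)]
      congr 1
      refine Finset.sum_congr rfl fun x _ => ?_
      rw [Equiv.coe_mulLeft, Clifford.resFun_apply, Subgroup.coe_mul, hχv, hφv, map_mul,
        Clifford.resFun_apply]
      ring
    have h1 : a * conj b = 1 := mul_right_cancel₀ h (by rw [one_mul]; exact e.symm)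
    have hb1 : b ^ orderOf z = 1 := by
      have hp : σ z ^ orderOf z = 1 := by rw [← map_pow, pow_orderOf_eq_one, map_one]
      rw [hb, smul_pow, one_pow] at hp
      have hp' := congrArg (LinearMap.trace ℂ _) hp
      rw [map_smul, smul_eq_mul] at hp'
      refine mul_right_cancel₀ ?_ (hp'.trans (one_mul _).symm)
      rw [← map_one σ]
      show σ.character 1 ≠ 0
      rw [hφ]; exact hφ1
    have hn : ‖b‖ = 1 := Complex.norm_eq_one_of_pow_eq_one hb1 (orderOf_pos z).ne'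
    rw [← Complex.inv_eq_conj hn] at h1
    exact mul_inv_eq_one₀ (norm_ne_zero_iff.1 (hn ▸ one_ne_zero)) |>.1 h1
  have e1 : (χ : G → ℂ) z = a * (χ : G → ℂ) 1 := by
    simpa using hχv 1
  have e2 : (φ : N → ℂ) z = b * (φ : N → ℂ) 1 := by
    simpa using hφv 1
  rw [e1, e2, ← hab, mul_comm a ((χ : G → ℂ) 1), mul_comm a ((φ : N → ℂ) 1),
    mul_right_inj' hχ1, mul_right_inj' hφ1]

variable {G : Type u} [Group G] [Finite G] {S : Type v} [Group S] [Fintype S]
variable {σ : S →* MulAut G} {K Z H : Subgroup G} {l : Z →* ℂˣ}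

namespace CoreData

theorem exists_invariant_constituent (d : CoreData σ K Z H) (χ : IrrCharacter G)
    (hl : Over l (χ : G → ℂ)) (hinv : ∀ s g, (χ : G → ℂ) (σ s g) = (χ : G → ℂ) g)
    [Fintype K] :
    ∃ φ : IrrCharacter K, Cfsg.classInner (Clifford.resFun K (χ : G → ℂ)) (φ : K → ℂ) ≠ 0 ∧
      (∀ z : Z, (φ : K → ℂ) ⟨z, d.ZK z.2⟩ = (φ : K → ℂ) 1 * (l z : ℂ)) ∧
      ∀ s k, (φ : K → ℂ) (d.act s k) = (φ : K → ℂ) k := by
  haveI := d.normal
  letI := Fintype.ofFinite G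
  have hχc := Chars.irr_isCharacter χ
  obtain ⟨φ, hφ⟩ : ∃ φ : IrrCharacter K,
      Cfsg.classInner (Clifford.resFun K (χ : G → ℂ)) (φ : K → ℂ) ≠ 0 := by
    by_contra hall
    push Not at hall
    have h := congrFun (Chars.isCharacter_eq_sum_classInner
      (φ := Clifford.resFun K (χ : G → ℂ)) (Chars.isCharacter_restrict K hχc)) 1
    simp only [hall, zero_smul, Finset.sum_const_zero, Clifford.resFun_apply, Subgroup.coe_one,
      Pi.zero_apply] at h
    exact Chars.irr_apply_one_ne_zero χ h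
  refine ⟨φ, hφ, fun z => (central_eq_of_constituent χ φ hφ ⟨z, d.ZK z.2⟩
    (fun g => d.central g z z.2)).1 (hl z), fun s k => ?_⟩
  let φs : S → K → ℂ := fun t k => (φ : K → ℂ) (d.act t k)
  have hφs : ∀ t, IsIrrCharacter K (φs t) := fun t => Clifford.isIrrCharacter_comp_equiv (d.act t) φ.2
  have hcon : Cfsg.classInner (Clifford.resFun K (χ : G → ℂ)) (φs s) ≠ 0 := by
    rw [← Clifford.classInner_comp_equiv (d.act s)] at hφ
    have : (fun k => Clifford.resFun K (χ : G → ℂ) (d.act s k)) = Clifford.resFun K (χ : G → ℂ) :=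
      funext fun k => hinv s k
    rwa [this] at hφ
  obtain ⟨g, hg⟩ := Clifford.exists_conjFun_eq_of_constituent χ.2 φ.2 (hφs s) hφ hcon
  obtain ⟨k₀, hk₀, h, hh, rfl⟩ := d.KH g
  have hk₀' : Clifford.conjFun k₀ (φ : K → ℂ) = φ := funext fun n =>
    Chars.irr_isClassFunction φ n ⟨k₀, hk₀⟩
  rw [Clifford.conjFun_mul, hk₀'] at hg
  have hiter : ∀ n : ℕ, φs (s ^ n) = Clifford.conjFun (h ^ n) (φ : K → ℂ) := by
    intro n
    induction n with
    | zero =>
      rw [pow_zero, pow_zero, Clifford.conjFun_one]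
      exact funext fun k => congrArg (φ : K → ℂ) (Subtype.ext (by simp [map_one]))
    | succ n ih =>
      funext x
      have e1 : φs (s ^ (n + 1)) x = φs (s ^ n) (d.act s x) :=
        congrArg (φ : K → ℂ) (Subtype.ext (by simp [pow_succ, map_mul]))
      rw [e1, ih, pow_succ', Clifford.conjFun_mul, hg]
      refine congrArg (φ : K → ℂ) (Subtype.ext ?_)
      show h ^ n * σ s x * (h ^ n)⁻¹ = σ s (h ^ n * (x : G) * (h ^ n)⁻¹)
      rw [map_mul, map_mul, map_inv, d.fixH s _ (H.pow_mem hh n)]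
  have hper : Clifford.conjFun (h ^ orderOf s) (φ : K → ℂ) = φ := by
    rw [← hiter, pow_orderOf_eq_one]
    exact funext fun k => congrArg (φ : K → ℂ) (Subtype.ext (by simp [map_one]))
  have hper' : ∀ j : ℕ, Clifford.conjFun ((h ^ orderOf s) ^ j) (φ : K → ℂ) = φ := by
    intro j
    induction j with
    | zero => rw [pow_zero, Clifford.conjFun_one]
    | succ j ih => rw [pow_succ, Clifford.conjFun_mul, ih, hper]
  obtain ⟨i, hi⟩ : ∃ i, (h ^ orderOf s) ^ i = h := by
    have hc : (orderOf s).Coprime (orderOf h) :=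
      (Nat.Coprime.of_dvd (orderOf_dvd_natCard s) (orderOf_dvd_natCard h) d.cop)
    exact exists_pow_eq_self_of_coprime hc
  have := congrFun hg k
  rw [← hi, hper'] at this
  exact this.symm

/-- An invariant character over `l` is fixed by the twist. -/
theorem tau_invariant (d : CoreData σ K Z H) (χ : IrrCharacter G)
    (hl : Over l (χ : G → ℂ)) (hinv : ∀ s g, (χ : G → ℂ) (σ s g) = (χ : G → ℂ) g) (g : G) :
    (χ : G → ℂ) (d.tau g) = (χ : G → ℂ) g := by
  classical
  haveI := d.normal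
  letI := Fintype.ofFinite G
  letI := Fintype.ofFinite K
  obtain ⟨φ, hφ, hφl, hφs⟩ := d.exists_invariant_constituent χ hl hinv
  obtain ⟨hφτ, hφH⟩ := d.char_fixed φ hφl hφs
  have hφG : ∀ x : G, Clifford.conjFun x (φ : K → ℂ) = φ := fun x => by
    obtain ⟨k, hk, h, hh, rfl⟩ := d.KH x
    rw [Clifford.conjFun_mul, show Clifford.conjFun k (φ : K → ℂ) = φ from funext fun n =>
      Chars.irr_isClassFunction φ n ⟨k, hk⟩]
    exact funext fun n => hφH h hh n _ rfl
  have hχK := Clifford.resFun_eq_smul_of_invariant χ.2 φ.2 hφ hφG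
  obtain ⟨k, hk, h, hh, rfl⟩ := d.KH g
  set J : Subgroup G := K ⊔ Subgroup.zpowers h
  have hKJ : K ≤ J := le_sup_left
  have hhJ : h ∈ J := Subgroup.mem_sup_right (Subgroup.mem_zpowers h)
  have hJ : ∀ x ∈ J, ∃ k' ∈ K, ∃ i : ℤ, x = k' * h ^ i := fun x hx => by
    obtain ⟨k', hk', y, ⟨i, rfl⟩, rfl⟩ := Subgroup.mem_sup_of_normal_left.1 hx
    exact ⟨k', hk', i, rfl⟩
  have hτJ : ∀ x ∈ J, d.tau x ∈ J ∧ d.tau x * x⁻¹ ∈ K := fun x hx => by
    obtain ⟨k', hk', i, rfl⟩ := hJ x hx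
    rw [show k' * h ^ i = ((⟨k', hk'⟩ : K) : G) * h ^ i from rfl,
      d.tau_apply _ (H.zpow_mem hh i)]
    refine ⟨J.mul_mem (hKJ (d.tauK _).2) (J.zpow_mem hhJ i), ?_⟩
    simpa [mul_assoc] using K.mul_mem (d.tauK ⟨k', hk'⟩).2 (K.inv_mem hk')
  let τJ : J ≃* J :=
    { toFun := fun x => ⟨d.tau x, (hτJ x x.2).1⟩
      invFun := fun x => ⟨d.tau x, (hτJ x x.2).1⟩
      left_inv := fun x => Subtype.ext (d.tauFun_tauFun x)
      right_inv := fun x => Subtype.ext (d.tauFun_tauFun x)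
      map_mul' := fun x y => Subtype.ext (map_mul d.tau (x : G) y) }
  let N : Subgroup J := K.subgroupOf J
  haveI : N.Normal := Subgroup.Normal.subgroupOf d.normal _
  letI := Fintype.ofFinite J
  letI := Fintype.ofFinite N
  let e : N ≃* K := Subgroup.subgroupOfEquivOfLe hKJ
  let φ' : N → ℂ := fun x => (φ : K → ℂ) (e x)
  have hφ' : IsIrrCharacter N φ' := Clifford.isIrrCharacter_comp_equiv e φ.2
  have hφ'inv : ∀ (x : J) (n : N),
      φ' ⟨x * n * x⁻¹, Subgroup.Normal.conj_mem inferInstance (n : J) n.2 x⟩ = φ' n := fun x n =>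
    congrFun (hφG (x : G)) (e n)
  haveI : IsCyclic (J ⧸ N) := ⟨((⟨h, hhJ⟩ : J) : J ⧸ N), fun q => by
    obtain ⟨x, rfl⟩ := QuotientGroup.mk_surjective q
    obtain ⟨k', hk', i, hx⟩ := hJ x x.2
    refine ⟨i, ?_⟩
    show ((⟨h, hhJ⟩ : J) : J ⧸ N) ^ i = _
    rw [← QuotientGroup.mk_zpow, QuotientGroup.eq, Subgroup.mem_subgroupOf]
    show (h ^ i)⁻¹ * (x : G) ∈ K
    rw [hx]
    simpa [mul_assoc] using d.normal.conj_mem k' hk' (h ^ i)⁻¹⟩
  obtain ⟨n, ρ, hρ, hρc⟩ := hφ'
  haveI := hρ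
  obtain ⟨ψ, hψ, hψN⟩ := CharExt.exists_irrCharacter_of_extension N ρ φ' hρc
    (CharExt.exists_extension_of_isCyclic N ρ
      (CharExt.projG_surjective_of_char_invariant N ρ φ' hρc hφ'inv))
  have hψN' : Clifford.resFun N ψ = φ' := funext hψN
  have hφ'irr : IsIrrCharacter N φ' := ⟨n, ρ, hρ, hρc⟩
  obtain ⟨hGirr, hGinj, hGall⟩ := Clifford.gallagher hψ (hψN'.symm ▸ hφ'irr)
  have hfix : ∀ δ : IrrCharacter J,
      Cfsg.classInner (Clifford.resFun N (δ : J → ℂ)) φ' ≠ 0 →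
        ∀ x, (δ : J → ℂ) (τJ x) = (δ : J → ℂ) x := by
    intro δ hδ x
    have hψτ : IsIrrCharacter J (fun x => ψ (τJ x)) := Clifford.isIrrCharacter_comp_equiv τJ hψ
    have hψτN : Clifford.resFun N (fun x => ψ (τJ x)) = φ' := by
      funext y
      have hmem : τJ (y : J) ∈ N := by
        show d.tau ((y : J) : G) ∈ K
        have := K.mul_mem (hτJ _ (y : J).2).2 (show ((y : J) : G) ∈ K from y.2)
        rwa [inv_mul_cancel_right] at this
      show ψ (τJ (y : J)) = φ' y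
      rw [hψN ⟨τJ (y : J), hmem⟩]
      refine Eq.trans (congrArg (φ : K → ℂ) (Subtype.ext ?_)) (hφτ (e y))
      show d.tau ((y : J) : G) = (d.tauK (e y) : G)
      have := d.tau_apply (e y) H.one_mem
      rw [mul_one, mul_one] at this
      exact this
    have hne : Cfsg.classInner φ' φ' ≠ 0 := by
      rw [Chars.classInner_irr_self ⟨φ', hφ'irr⟩]; exact one_ne_zero
    obtain ⟨β₀, hβ₀⟩ := (hGall _ hψτ).1 (by rw [hψτN, hψN']; exact hne)
    have hβ1 : (β₀ : J ⧸ N → ℂ) 1 = 1 := by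
      have h := congrFun hβ₀ 1
      rw [map_one τJ, Pi.mul_apply] at h
      exact mul_left_cancel₀ (Chars.irr_apply_one_ne_zero ⟨ψ, hψ⟩) (h.symm.trans (mul_one _).symm)
    obtain ⟨f, hf⟩ := Chars.exists_hom_of_degree_one (Chars.irr_isCharacter β₀) hβ1
    have hq : ∀ y : J, ((τJ y : J) : J ⧸ N) = y := fun y => by
      rw [QuotientGroup.eq_iff_div_mem, div_eq_mul_inv, Subgroup.mem_subgroupOf]
      exact (hτJ y y.2).2
    have hsq : ∀ y : J, ψ y = ψ y * ((f ^ 2) (y : J ⧸ N) : ℂ) := fun y => by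
      have h1 : ψ (τJ y) = ψ y * (β₀ : J ⧸ N → ℂ) y := congrFun hβ₀ y
      have h2 : ψ (τJ (τJ y)) = ψ (τJ y) * (β₀ : J ⧸ N → ℂ) (τJ y : J) := congrFun hβ₀ (τJ y)
      rw [hq, h1, show τJ (τJ y) = y from Subtype.ext (d.tauFun_tauFun y)] at h2
      conv_lhs => rw [h2]
      rw [hf, MonoidHom.pow_apply, Units.val_pow_eq_pow_val, pow_two, mul_assoc]
    have hf2 : f ^ 2 = 1 := by
      refine Chars.linIrr_injective (hGinj (funext fun y => ?_))
      show ψ y * ((f ^ 2) (y : J ⧸ N) : ℂ) = ψ y * ((1 : J ⧸ N →* ℂˣ) (y : J ⧸ N) : ℂ)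
      rw [← hsq y]; simp
    have hf1 : f = 1 := MonoidHom.ext fun q => by
      have ho : Odd (Nat.card (J ⧸ N)) := d.odd.of_dvd_nat
        ((Subgroup.card_quotient_dvd_card N).trans J.card_subgroup_dvd_card)
      obtain ⟨j, hj⟩ := ho
      have hq2 : f q ^ 2 = 1 := DFunLike.congr_fun hf2 q
      have hqc : f q ^ (2 * j + 1) = 1 := by rw [← hj, ← map_pow, pow_card_eq_one', map_one]
      rw [pow_succ, pow_mul, hq2, one_pow, one_mul] at hqc
      exact hqc
    obtain ⟨β, hβ⟩ := (hGall _ δ.2).1 (by rw [hψN']; exact hδ)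
    have hψx : ψ (τJ x) = ψ x := by
      rw [congrFun hβ₀ x, Pi.mul_apply, show (Chars.inflate N β₀ : J → ℂ) x =
        (β₀ : J ⧸ N → ℂ) x from rfl, hf, hf1]
      simp
    rw [congrFun hβ, congrFun hβ, Pi.mul_apply, Pi.mul_apply, hψx]
    exact congrArg _ (congrArg (β : J ⧸ N → ℂ) (hq x))
  obtain ⟨m, hm⟩ := Chars.isCharacter_exists_nat_decomp
    (Chars.isCharacter_restrict J (Chars.irr_isCharacter χ))
  have hmain : ∀ δ : IrrCharacter J, m δ ≠ 0 →
      Cfsg.classInner (Clifford.resFun N (δ : J → ℂ)) φ' ≠ 0 := by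
    intro δ hmδ h0
    have hδN : Cfsg.IsCharacter N (Clifford.resFun N (δ : J → ℂ)) :=
      Chars.isCharacter_restrict N (Chars.irr_isCharacter δ)
    obtain ⟨φ₁, hφ₁⟩ : ∃ φ₁ : IrrCharacter N,
        Cfsg.classInner (Clifford.resFun N (δ : J → ℂ)) (φ₁ : N → ℂ) ≠ 0 := by
      by_contra hall
      push Not at hall
      have h := congrFun (Chars.isCharacter_eq_sum_classInner hδN) 1
      simp only [hall, zero_smul, Finset.sum_const_zero, Clifford.resFun_apply, Subgroup.coe_one,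
        Pi.zero_apply] at h
      exact Chars.irr_apply_one_ne_zero δ h
    choose c hc using fun δ' : IrrCharacter J => Clifford.classInner_irr_nat (N := N) (θ := (φ₁ : N → ℂ))
      (Chars.isCharacter_restrict N (Chars.irr_isCharacter δ')) φ₁.2
    have hN : (fun x : N => (χ : G → ℂ) ((x : J) : G)) =
        Cfsg.classInner (Clifford.resFun K (χ : G → ℂ)) (φ : K → ℂ) • φ' :=
      funext fun x => congrFun hχK (e x)
    have hsum : (fun x : N => (χ : G → ℂ) ((x : J) : G)) =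
        ∑ δ' : IrrCharacter J, (m δ' : ℂ) • Clifford.resFun N (δ' : J → ℂ) := by
      funext x
      have := congrFun hm (x : J)
      simpa [Clifford.resFun] using this
    have h1 := congrArg (fun F => Cfsg.classInner F (φ₁ : N → ℂ)) (hN.symm.trans hsum)
    simp only [Chars.classInner_sum_left, Chars.classInner_smul_left] at h1
    have hne : φ₁ ≠ ⟨φ', hφ'irr⟩ := fun h' => hφ₁ (by rw [h']; exact h0)
    rw [Chars.classInner_irr_of_ne (χ := ⟨φ', hφ'irr⟩) (ψ := φ₁) (Ne.symm hne), mul_zero] at h1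
    have h2 : (0 : ℂ) = ((∑ δ', m δ' * c δ' : ℕ) : ℂ) := by
      rw [h1]; push_cast
      exact Finset.sum_congr rfl fun δ' _ => congrArg ((m δ' : ℂ) * ·) (hc δ')
    have h3 := (Finset.sum_eq_zero_iff.1 (Nat.cast_eq_zero.1 h2.symm)) δ (Finset.mem_univ _)
    rcases Nat.mul_eq_zero.1 h3 with h4 | h4
    · exact hmδ h4
    · exact hφ₁ ((hc δ).trans (by rw [h4, Nat.cast_zero]))
  have e1 := congrFun hm (τJ ⟨k * h, J.mul_mem (hKJ hk) hhJ⟩)
  have e2 := congrFun hm ⟨k * h, J.mul_mem (hKJ hk) hhJ⟩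
  simp only [Finset.sum_apply, Pi.smul_apply, smul_eq_mul] at e1 e2
  refine Eq.trans (show (χ : G → ℂ) (d.tau (k * h)) = _ from e1) (Eq.trans ?_ e2.symm)
  refine Finset.sum_congr rfl fun δ _ => ?_
  by_cases hδ : m δ = 0
  · simp [hδ]
  · rw [hfix δ (hmain δ hδ)]

/-- The parity correspondence over a central character. -/
theorem parity (d : CoreData σ K Z H) :
    (∀ χ : IrrCharacter G, Over l (χ : G → ℂ) →
      (∀ s g, (χ : G → ℂ) (σ s g) = (χ : G → ℂ) g) →
      ∃! β : IrrCharacter H, Odd (charMult (Clifford.resFun H (χ : G → ℂ)) (β : H → ℂ))) ∧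
    ∀ β : IrrCharacter H, (∀ z : Z, (β : H → ℂ) ⟨z, d.ZH z.2⟩ = (β : H → ℂ) 1 * (l z : ℂ)) →
      ∃! χ : IrrCharacter G, Over l (χ : G → ℂ) ∧
        (∀ s g, (χ : G → ℂ) (σ s g) = (χ : G → ℂ) g) ∧
        Odd (charMult (Clifford.resFun H (χ : G → ℂ)) (β : H → ℂ)) := by
  classical
  letI := Fintype.ofFinite H
  obtain ⟨f, hsurj, hfτ, hodd⟩ := exists_glauberman_two d.odd d.tau d.tauFun_tauFun H d.mem_H_iff
  refine ⟨fun χ hl hinv => ?_, fun β hl => ?_⟩
  · obtain ⟨β, rfl⟩ := hsurj χ (d.tau_invariant χ hl hinv)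
    exact ⟨β, (hodd β β).2 rfl, fun γ hγ => (hodd β γ).1 hγ⟩
  have huniq : ∀ χ : IrrCharacter G, (∀ g, (χ : G → ℂ) (d.tau g) = (χ : G → ℂ) g) →
      Odd (charMult (Clifford.resFun H (χ : G → ℂ)) (β : H → ℂ)) → χ = f β := by
    intro χ hτ hm
    obtain ⟨γ, rfl⟩ := hsurj χ hτ
    rw [(hodd γ β).1 hm]
  refine ⟨f β, ⟨?_, fun s g => ?_, (hodd β β).2 rfl⟩, fun χ ⟨hχl, hχs, hm⟩ =>
    huniq χ (d.tau_invariant χ hχl hχs) hm⟩
  · intro z
    have hne : Cfsg.classInner (Clifford.resFun H (f β : G → ℂ)) (β : H → ℂ) ≠ 0 := by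
      rw [charMult_spec (φ := Clifford.resFun H (f β : G → ℂ))
        (Chars.isCharacter_restrict H (Chars.irr_isCharacter _)) (Chars.irr_isCharacter β),
        Nat.cast_ne_zero]
      exact ((hodd β β).2 rfl).pos.ne'
    exact (central_eq_of_constituent (f β) β hne ⟨z, d.ZH z.2⟩
      (fun g => d.central g z z.2)).2 (hl z)
  · let χs : IrrCharacter G :=
      ⟨fun g => (f β : G → ℂ) (σ s g), Clifford.isIrrCharacter_comp_equiv (σ s) (f β).2⟩
    have h : χs = f β := huniq χs (fun g => by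
        show (f β : G → ℂ) (σ s (d.tau g)) = (f β : G → ℂ) (σ s g)
        rw [← d.tau_sigma, hfτ]) (by
        rw [show Clifford.resFun H (χs : G → ℂ) = Clifford.resFun H (f β : G → ℂ) from
          funext fun h => congrArg (f β : G → ℂ) (d.fixH s h h.2)]
        exact (hodd β β).2 rfl)
    exact congrFun (congrArg Subtype.val h) g

end CoreData

end Cfsg.Agent.Lib.ParityCorr
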