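import Mathlib
import Cfsg.Agent.Lib.Glauberman.Layers
import Cfsg.Agent.Lib.ParityCorr.Core

/-!
# A cover in which an invariant character extends
-/

set_option autoImplicit false

namespace Cfsg.Agent.Lib.ParityCorr

open Cfsg
open Cfsg.Agent.Lib
open Cfsg.Agent.Lib.Glauberman (charMult charMult_spec charMult_eq_of resSub isCharacter_resSub)
open scoped ComplexConjugate

universe u v

variable {Γ : Type u} [Group Γ] [Finite Γ]

/-- A finite central extension `E` of `B` in which `θ` extends as `R`. -/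
structure IsCover {E : Type v} [Group E] {k : ℕ} (B M : Subgroup Γ) (θ : M → ℂ) (π : E →* Γ)
    (i : M →* E) (R : Representation ℂ E (Fin k → ℂ)) (lam : π.ker →* ℂˣ) : Prop where
  range_eq : π.range = B
  pi_i : ∀ m : M, π (i m) = (m : Γ)
  normal : i.range.Normal
  char_i : ∀ m : M, R.character (i m) = θ m
  irr : Representation.IsIrreducible (R.comp i : Representation ℂ M (Fin k → ℂ))
  central : ∀ z : E, π z = 1 → ∀ e : E, e * z = z * e
  scalar : ∀ z : π.ker, R z = (lam z : ℂ) • (1 : Module.End ℂ (Fin k → ℂ))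
  expo : ∀ z : E, π z = 1 → z ^ (Nat.card M * Nat.card M) = 1

theorem exists_isCover (B M : Subgroup Γ) (hMB : M ≤ B)
    (hn : ∀ x ∈ B, ∀ m ∈ M, x * m * x⁻¹ ∈ M) (θ : IrrCharacter M)
    (hinv : ∀ x ∈ B, Glauberman.IsConjBy x (θ : M → ℂ) (θ : M → ℂ)) :
    ∃ (E : Type u) (_ : Group E) (_ : Finite E) (k : ℕ) (π : E →* Γ) (i : M →* E)
      (R : Representation ℂ E (Fin k → ℂ)) (lam : π.ker →* ℂˣ),
      IsCover B M (θ : M → ℂ) π i R lam := by
  classical
  let N : Subgroup B := M.subgroupOf B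
  haveI hN : N.Normal := ⟨fun m hm x => hn x x.2 _ hm⟩
  let e : N ≃* M := Subgroup.subgroupOfEquivOfLe hMB
  let θ' : N → ℂ := fun x => (θ : M → ℂ) (e x)
  obtain ⟨k, σ, hσ, hθ⟩ : IsIrrCharacter N θ' := Clifford.isIrrCharacter_comp_equiv e θ.2
  haveI := hσ
  haveI := CharExt.nontrivial_of_isIrreducible σ
  have hsurj : Function.Surjective (CharExt.projG N σ) :=
    CharExt.projG_surjective_of_char_invariant N σ θ' hθ fun g x => hinv (g : Γ) g.2 (e x) _ rfl
  set d := Module.finrank ℂ (Fin k → ℂ)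
  let e0 := Nat.card N
  haveI : NeZero (d * e0) := ⟨mul_ne_zero Module.finrank_pos.ne' Nat.card_pos.ne'⟩
  let E : Subgroup (CharExt.intertwinerGroup N σ) := (CharExt.detHom N σ ^ e0).ker
  have hlift : ∀ g, ∃ x, x ∈ CharExt.finiteIntertwiners N σ ∧ CharExt.projG N σ x = g := fun g => by
    obtain ⟨t, rfl⟩ := hsurj g
    obtain ⟨c, hc⟩ := CharExt.exists_mem_finiteIntertwiners N σ t
    exact ⟨_, hc, by rw [map_mul, CharExt.projG_inclScalar, mul_one]⟩
  choose r hr1 hr2 using hlift
  have hrE : ∀ g, r g ∈ E := fun g => by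
    show CharExt.detHom N σ (r g) ^ e0 = 1
    rw [show CharExt.detHom N σ (r g) = 1 from hr1 g, one_pow]
  have hscal : ∀ x ∈ E, ∀ g, CharExt.projG N σ x = g → ∃ c : ℂˣ,
      x = r g * CharExt.inclScalar N σ c ∧ c ^ (d * e0) = 1 := by
    intro x hx g hxg
    obtain ⟨c, hc⟩ := CharExt.exists_scalar_of_projG_eq N σ (a := x) (b := r g)
      (hxg.trans (hr2 g).symm)
    refine ⟨c, hc, ?_⟩
    have h2 : (CharExt.detHom N σ x) ^ e0 = 1 := hx
    rw [hc, map_mul, show CharExt.detHom N σ (r g) = 1 from hr1 g, one_mul,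
      CharExt.detHom_inclScalar, ← pow_mul] at h2
    exact h2
  haveI : Finite E := by
    let F : B × rootsOfUnity (d * e0) ℂ → CharExt.intertwinerGroup N σ :=
      fun p => r p.1 * CharExt.inclScalar N σ p.2.1
    refine ((Set.finite_range F).subset fun x hx => ?_).to_subtype
    obtain ⟨c, hc, h1⟩ := hscal x hx _ rfl
    exact ⟨(CharExt.projG N σ x, ⟨c, (mem_rootsOfUnity _ c).2 h1⟩), hc.symm⟩
  have hNE : ∀ n, CharExt.inclN N σ n ∈ E := fun n => by
    show CharExt.detHom N σ (CharExt.inclN N σ n) ^ e0 = 1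
    rw [← map_pow, ← map_pow, show n ^ e0 = 1 from pow_card_eq_one', map_one, map_one]
  let p : E →* B := (CharExt.projG N σ).comp E.subtype
  let π : E →* Γ := B.subtype.comp p
  let iN : N →* E := (CharExt.inclN N σ).codRestrict E hNE
  let i : M →* E := iN.comp e.symm.toMonoidHom
  let R : Representation ℂ E (Fin k → ℂ) :=
    (Units.coeHom (Module.End ℂ (Fin k → ℂ))).comp ((CharExt.projT N σ).comp E.subtype)
  have hRi : ∀ m, R (i m) = σ (e.symm m) := fun m => rfl
  have hker : ∀ z : E, π z = 1 → ∃ c : ℂˣ, (z : CharExt.intertwinerGroup N σ) =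
      CharExt.inclScalar N σ c ∧ c ^ (d * e0) = 1 := fun z hz => by
    have hp : CharExt.projG N σ z = 1 := Subtype.ext hz
    obtain ⟨c, hc⟩ := CharExt.exists_scalar_of_projG_eq N σ (a := z.1) (b := 1)
      (hp.trans (map_one _).symm)
    rw [one_mul] at hc
    refine ⟨c, hc, ?_⟩
    have h2 : (CharExt.detHom N σ z) ^ e0 = 1 := z.2
    rw [hc, CharExt.detHom_inclScalar, ← pow_mul] at h2
    exact h2
  let lam : π.ker → ℂˣ := fun z => (hker z.1 z.2).choose
  have hlam : ∀ z : π.ker, ((z : E) : CharExt.intertwinerGroup N σ) =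
      CharExt.inclScalar N σ (lam z) := fun z => (hker z.1 z.2).choose_spec.1
  have hinj : Function.Injective (CharExt.inclScalar N σ) := fun a b h =>
    CharExt.scalarUnit_injective (V := Fin k → ℂ) (congrArg (CharExt.projT N σ) h)
  let lamHom : π.ker →* ℂˣ := MonoidHom.mk' lam fun a b => hinj (by
    rw [map_mul, ← hlam, ← hlam, ← hlam]; rfl)
  refine ⟨E, inferInstance, inferInstance, k, π, i, R, lamHom,
    { range_eq := ?_, pi_i := fun m => rfl, normal := ?_, char_i := ?_, irr := ?_, central := ?_,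
      scalar := ?_, expo := ?_ }⟩
  · refine le_antisymm ?_ fun x hx => ?_
    · rintro _ ⟨z, rfl⟩; exact (p z).2
    · exact ⟨⟨r ⟨x, hx⟩, hrE _⟩, congrArg Subtype.val (hr2 ⟨x, hx⟩)⟩
  · refine ⟨?_⟩
    rintro _ ⟨m, rfl⟩ x
    exact ⟨e _, Subtype.ext ((congrArg (CharExt.inclN N σ) (e.symm_apply_apply _)).trans
      (CharExt.inclN_conj N σ x.1 (e.symm m)).symm)⟩
  · intro m
    show LinearMap.trace ℂ _ (R (i m)) = _
    rw [hRi]
    exact (congrFun hθ (e.symm m)).trans (congrArg (θ : M → ℂ) (e.apply_symm_apply m))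
  · apply CharExt.isIrreducible_of_comp e.toMonoidHom
    have h : ((R.comp i).comp e.toMonoidHom : Representation ℂ N (Fin k → ℂ)) = σ :=
      MonoidHom.ext fun n => (hRi (e n)).trans (congrArg σ (e.symm_apply_apply n))
    rw [h]; exact hσ
  · intro z hz x
    obtain ⟨c, hc, -⟩ := hker z hz
    exact Subtype.ext (show (x : CharExt.intertwinerGroup N σ) * z = z * x by
      rw [hc]; exact (CharExt.inclScalar_central N σ c x.1).symm)
  · intro z
    show ((CharExt.projT N σ (z : E).1 : (Module.End ℂ (Fin k → ℂ))ˣ) :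
      Module.End ℂ (Fin k → ℂ)) = _
    rw [hlam z]
    exact Algebra.algebraMap_eq_smul_one _
  · intro z hz
    obtain ⟨c, hc, hc1⟩ := hker z hz
    have hd : d ∣ Nat.card M := by
      rw [← Nat.card_congr e.toEquiv]
      exact Chars.finrank_dvd_card σ
    have he0 : e0 = Nat.card M := Nat.card_congr e.toEquiv
    have hdvd : d * e0 ∣ Nat.card M * Nat.card M := by rw [he0]; exact mul_dvd_mul_right hd _
    obtain ⟨t, ht⟩ := hdvd
    refine Subtype.ext ?_
    rw [Subgroup.coe_pow, hc, ← map_pow, ht, pow_mul, hc1, one_pow, map_one]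
    rfl

variable {E : Type v} [Group E] [Finite E] {k : ℕ} {B M : Subgroup Γ} {θ : M → ℂ} {π : E →* Γ}
variable {i : M →* E} {R : Representation ℂ E (Fin k → ℂ)} {lam : π.ker →* ℂˣ}
variable {A : Subgroup Γ} {X : Type v} [Group X] [Finite X]

/-- The projection of the preimage of `A`. -/
def projSub (π : E →* Γ) (A : Subgroup Γ) : A.comap π →* A :=
  (π.comp (A.comap π).subtype).codRestrict A fun x => x.2

@[simp] theorem projSub_coe (x : A.comap π) : ((projSub π A x : A) : Γ) = π x := rfl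

/-- `χ` is the product of the extension and `β`. -/
def Lift (π : E →* Γ) (R : Representation ℂ E (Fin k → ℂ)) (q : A.comap π →* X) (χ : A → ℂ)
    (β : X → ℂ) : Prop :=
  ∀ x : A.comap π, χ (projSub π A x) = R.character (x : E) * β (q x)

/-- The central character condition. -/
def OverLam (lam : π.ker →* ℂˣ) (q : A.comap π →* X) (β : X → ℂ) : Prop :=
  ∀ (x : A.comap π) (hx : (x : E) ∈ π.ker), (lam ⟨x, hx⟩ : ℂ) * β (q x) = β 1

/-- The data describing `X` as the quotient of the preimage of `A` by the copy of `M`. -/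
structure IsQuot (π : E →* Γ) (i : M →* E) (A : Subgroup Γ) (q : A.comap π →* X) : Prop where
  surj : Function.Surjective q
  ker : q.ker = i.range.subgroupOf (A.comap π)
  le : M ≤ A

namespace IsCover

variable (hc : IsCover B M θ π i R lam) {q : A.comap π →* X} (hq : IsQuot π i A q)
include hc

theorem char_one_ne_zero : R.character 1 ≠ 0 := by
  haveI := hc.irr
  haveI : Finite M := inferInstance
  have h := Chars.irr_apply_one_ne_zero
    (⟨_, k, (R.comp i : Representation ℂ M (Fin k → ℂ)), hc.irr, rfl⟩ : IrrCharacter M)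
  simpa [Representation.character, map_one] using h

theorem projSub_surjective (hAB : A ≤ B) : Function.Surjective (projSub π A) := fun a => by
  have : (a : Γ) ∈ π.range := hc.range_eq.symm ▸ hAB a.2
  obtain ⟨e, he⟩ := this
  exact ⟨⟨e, show π e ∈ A from he ▸ a.2⟩, Subtype.ext he⟩

theorem lift_chi_unique (hAB : A ≤ B) {χ χ' : A → ℂ} {β : X → ℂ} (h : Lift π R q χ β)
    (h' : Lift π R q χ' β) : χ = χ' := funext fun a => by
  obtain ⟨x, rfl⟩ := hc.projSub_surjective hAB a
  rw [h, h']

include hq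

theorem range_le : i.range ≤ A.comap π := by
  rintro _ ⟨m, rfl⟩
  show π (i m) ∈ A
  rw [hc.pi_i]; exact hq.le m.2

/-- Everything needed from Gallagher's theorem. -/
theorem gallagher' [Fintype (A.comap π)] [Fintype M] :
    (∀ β : IrrCharacter X,
      IsIrrCharacter (A.comap π) (fun x => R.character (x : E) * (β : X → ℂ) (q x))) ∧
    (∀ β β' : IrrCharacter X, (∀ x : A.comap π, R.character (x : E) * (β : X → ℂ) (q x) =
      R.character (x : E) * (β' : X → ℂ) (q x)) → β = β') ∧
    ∀ χ₁ : A.comap π → ℂ, IsIrrCharacter (A.comap π) χ₁ →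
      (∃ f : M → A.comap π, (∀ m, (f m : E) = i m) ∧
        classInner (fun m => χ₁ (f m)) θ ≠ 0) →
      ∃ β : IrrCharacter X, ∀ x, χ₁ x = R.character (x : E) * (β : X → ℂ) (q x) := by
  classical
  let N := i.range.subgroupOf (A.comap π)
  haveI : N.Normal := Subgroup.Normal.subgroupOf hc.normal _
  letI : Fintype N := Fintype.ofFinite N
  have hi : Function.Injective i := fun a b h => Subtype.ext (by
    rw [← hc.pi_i a, ← hc.pi_i b, h])
  let eM : M ≃* N := (MonoidHom.ofInjective hi).trans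
    (Subgroup.subgroupOfEquivOfLe (hc.range_le hq)).symm
  have heM : ∀ m, (((eM m : N) : A.comap π) : E) = i m := fun m => rfl
  let R' : Representation ℂ (A.comap π) (Fin k → ℂ) := R.comp (A.comap π).subtype
  have hR' : IsIrrCharacter (A.comap π) R'.character := by
    refine ⟨k, R', CharExt.isIrreducible_of_comp (N.subtype.comp eM.toMonoidHom) R' ?_, rfl⟩
    exact hc.irr
  have hR'N : IsIrrCharacter N (Clifford.resFun N R'.character) := by
    have h1 : IsIrrCharacter N (fun x => θ (eM.symm x)) :=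
      Clifford.isIrrCharacter_comp_equiv eM.symm
        ⟨k, _, hc.irr, funext fun m => hc.char_i m⟩
    convert h1 using 1
    funext x
    obtain ⟨m, rfl⟩ := eM.surjective x
    rw [MulEquiv.symm_apply_apply, ← hc.char_i]
    rfl
  obtain ⟨h1, h2, h3⟩ := Clifford.gallagher hR' hR'N
  let eX : (A.comap π) ⧸ N ≃* X := (QuotientGroup.quotientMulEquivOfEq hq.ker.symm).trans
    (QuotientGroup.quotientKerEquivOfSurjective q hq.surj)
  have hinfl : ∀ (β : IrrCharacter X) (x : A.comap π),
      (Chars.inflate N (Chars.irrCongr eX β) : A.comap π → ℂ) x = (β : X → ℂ) (q x) :=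
    fun β x => rfl
  have hmul : ∀ β : IrrCharacter X, (fun x : A.comap π => R.character (x : E) * (β : X → ℂ) (q x)) =
      R'.character * (Chars.inflate N (Chars.irrCongr eX β) : A.comap π → ℂ) := fun β =>
    funext fun x => by rw [Pi.mul_apply, hinfl]; rfl
  refine ⟨fun β => hmul β ▸ h1 _, fun β β' h => ?_, fun χ₁ hχ₁ hne => ?_⟩
  · refine (Chars.irrCongr eX).injective (h2 ?_)
    show R'.character * _ = R'.character * _
    rw [← hmul, ← hmul]
    exact funext h
  · obtain ⟨f, hf, hne⟩ := hne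
    have hcon : classInner (Clifford.resFun N χ₁) (Clifford.resFun N R'.character) ≠ 0 := by
      rw [← Clifford.classInner_comp_equiv eM]
      have e1 : (fun m => Clifford.resFun N χ₁ (eM m)) = fun m => χ₁ (f m) := funext fun m =>
        congrArg χ₁ (Subtype.ext ((heM m).trans (hf m).symm))
      have e2 : (fun m => Clifford.resFun N R'.character (eM m)) = θ := funext fun m => hc.char_i m
      rw [e1, e2]; exact hne
    obtain ⟨β₀, hβ₀⟩ := (h3 χ₁ hχ₁).1 hcon
    refine ⟨(Chars.irrCongr eX).symm β₀, fun x => ?_⟩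
    rw [hβ₀, Pi.mul_apply, ← hinfl ((Chars.irrCongr eX).symm β₀) x, Equiv.apply_symm_apply]
    rfl

theorem lift_beta_unique {χ : A → ℂ} {β β' : IrrCharacter X}
    (h : Lift π R q χ (β : X → ℂ)) (h' : Lift π R q χ (β' : X → ℂ)) : β = β' := by
  letI : Fintype (A.comap π) := Fintype.ofFinite _
  letI : Fintype M := Fintype.ofFinite M
  exact (hc.gallagher' hq).2.1 β β' fun x => (h x).symm.trans (h' x)

/-- Characters over `θ` come from characters over the central character. -/
theorem exists_down [Fintype M] (hAB : A ≤ B) (χ : IrrCharacter A)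
    (hθ : classInner (resSub hq.le (χ : A → ℂ)) θ ≠ 0) :
    ∃ β : IrrCharacter X, Lift π R q (χ : A → ℂ) (β : X → ℂ) ∧ OverLam lam q (β : X → ℂ) := by
  classical
  letI : Fintype (A.comap π) := Fintype.ofFinite _
  have hirr := Chars.isIrrCharacter_comp_surjective (projSub π A) (hc.projSub_surjective hAB) χ.2
  obtain ⟨β, hβ⟩ := (hc.gallagher' hq).2.2 _ hirr
    ⟨fun m => ⟨i m, hc.range_le hq ⟨m, rfl⟩⟩, fun m => rfl, by
      have : (fun m : M => (χ : A → ℂ) (projSub π A ⟨i m, hc.range_le hq ⟨m, rfl⟩⟩)) =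
          resSub hq.le (χ : A → ℂ) :=
        funext fun m => congrArg (χ : A → ℂ) (Subtype.ext (hc.pi_i m))
      rw [this]; exact hθ⟩
  refine ⟨β, hβ, fun x hx => ?_⟩
  have h1 : (χ : A → ℂ) (projSub π A x) = (χ : A → ℂ) (projSub π A 1) :=
    congrArg (χ : A → ℂ) (by rw [map_one]; exact Subtype.ext hx)
  rw [hβ x, hβ 1, map_one q, Subgroup.coe_one] at h1
  have hR : R.character (x : E) = (lam ⟨x, hx⟩ : ℂ) * R.character 1 := by
    simp only [Representation.character, hc.scalar ⟨x, hx⟩, map_smul, smul_eq_mul, map_one R]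
  rw [hR, mul_comm _ (R.character 1), mul_assoc] at h1
  exact mul_left_cancel₀ hc.char_one_ne_zero h1

/-- Characters over the central character give characters over `θ`. -/
theorem exists_up [Fintype M] (hAB : A ≤ B) (β : IrrCharacter X)
    (hl : OverLam lam q (β : X → ℂ)) :
    ∃ χ : IrrCharacter A, Lift π R q (χ : A → ℂ) (β : X → ℂ) ∧
      classInner (resSub hq.le (χ : A → ℂ)) θ ≠ 0 := by
  classical
  letI : Fintype (A.comap π) := Fintype.ofFinite _
  let χ₁ : IrrCharacter (A.comap π) := ⟨_, (hc.gallagher' hq).1 β⟩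
  obtain ⟨ψ, hψ⟩ := Chars.exists_irr_quotient (projSub π A).ker χ₁ fun x hx => by
    have hx' : (x : E) ∈ π.ker := congrArg Subtype.val hx
    show R.character (x : E) * (β : X → ℂ) (q x) = R.character ((1 : A.comap π) : E) *
      (β : X → ℂ) (q 1)
    rw [map_one q, Subgroup.coe_one, ← hl x hx']
    simp only [Representation.character, hc.scalar ⟨x, hx'⟩, map_smul, smul_eq_mul, map_one R]
    ring
  let eA := QuotientGroup.quotientKerEquivOfSurjective _ (hc.projSub_surjective (A := A) hAB)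
  let χ : IrrCharacter A := ⟨_, Clifford.isIrrCharacter_comp_equiv eA.symm ψ.2⟩
  have hlift : Lift π R q (χ : A → ℂ) (β : X → ℂ) := fun x => by
    refine Eq.trans ?_ (hψ x)
    show (ψ : (A.comap π) ⧸ (projSub π A).ker → ℂ) (eA.symm (projSub π A x)) = _
    exact congrArg (ψ : (A.comap π) ⧸ (projSub π A).ker → ℂ) (eA.symm_apply_eq.2 rfl)
  refine ⟨χ, hlift, ?_⟩
  have hres : resSub hq.le (χ : A → ℂ) = (β : X → ℂ) 1 • θ := funext fun m => by
    have hm : i m ∈ A.comap π := hc.range_le hq ⟨m, rfl⟩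
    have h1 : q ⟨i m, hm⟩ = 1 := by
      rw [← MonoidHom.mem_ker, hq.ker, Subgroup.mem_subgroupOf]
      exact ⟨m, rfl⟩
    have := hlift ⟨i m, hm⟩
    rw [h1, hc.char_i, mul_comm] at this
    exact (congrArg (χ : A → ℂ) (Subtype.ext (hc.pi_i m).symm)).trans this
  rw [hres, Chars.classInner_smul_left,
    Chars.classInner_irr_self ⟨θ, k, _, hc.irr, funext fun m => hc.char_i m⟩, mul_one]
  exact Chars.irr_apply_one_ne_zero β

/-- The lift preserves multiplicities. -/
theorem charMult_lift {G' : Subgroup Γ} {Y : Type v} [Group Y] [Finite Y]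
    {q' : G'.comap π →* Y} (hAB : A ≤ B) (hAG : A ≤ G') (ι : X →* Y)
    (hι : ∀ x : A.comap π, ι (q x) = q' ⟨x, hAG x.2⟩)
    {χ : IrrCharacter G'} {β : IrrCharacter Y} (hβ : Lift π R q' (χ : G' → ℂ) (β : Y → ℂ))
    {ψ : IrrCharacter A} {γ : IrrCharacter X} (hγ : Lift π R q (ψ : A → ℂ) (γ : X → ℂ))
    [Fintype X] :
    classInner (fun x => (β : Y → ℂ) (ι x)) (γ : X → ℂ) =
      (charMult (resSub hAG (χ : G' → ℂ)) (ψ : A → ℂ) : ℂ) := by
  classical
  letI : Fintype A := Fintype.ofFinite A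
  letI : Fintype (A.comap π) := Fintype.ofFinite _
  have hβc : Cfsg.IsCharacter X (fun x => (β : Y → ℂ) (ι x)) :=
    Chars.isCharacter_comp ι (Chars.irr_isCharacter β)
  rw [← charMult_spec (isCharacter_resSub hAG (Chars.irr_isCharacter χ)) (Chars.irr_isCharacter ψ),
    ← Chars.classInner_comp_of_surjective (projSub π A) (hc.projSub_surjective hAB)]
  obtain ⟨m, hm⟩ := Chars.isCharacter_exists_nat_decomp hβc
  letI : Fintype M := Fintype.ofFinite M
  obtain ⟨hirr, hinj, -⟩ := hc.gallagher' hq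
  let F : IrrCharacter X → IrrCharacter (A.comap π) := fun δ => ⟨_, hirr δ⟩
  have hF : Function.Injective F := fun δ δ' h =>
    hinj δ δ' (congrFun (congrArg Subtype.val h))
  have e1 : (fun x => resSub hAG (χ : G' → ℂ) (projSub π A x)) =
      ∑ δ, (m δ : ℂ) • (F δ : A.comap π → ℂ) := funext fun x => by
    have h1 : resSub hAG (χ : G' → ℂ) (projSub π A x) =
        R.character (x : E) * (β : Y → ℂ) (ι (q x)) := by
      rw [hι]; exact hβ ⟨x, hAG x.2⟩
    rw [h1, show (β : Y → ℂ) (ι (q x)) = _ from congrFun hm (q x), Finset.sum_apply,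
      Finset.sum_apply, Finset.mul_sum]
    refine Finset.sum_congr rfl fun δ _ => ?_
    simp only [Pi.smul_apply, smul_eq_mul, F]
    ring
  have e2 : (fun x => (ψ : A → ℂ) (projSub π A x)) = (F γ : A.comap π → ℂ) := funext hγ
  rw [e1, e2, Chars.classInner_sum_left, Finset.sum_eq_single γ, Chars.classInner_smul_left,
    Chars.classInner_irr_self, mul_one, hm, Chars.classInner_sum_smul_irr]
  · intro δ _ hne
    rw [Chars.classInner_smul_left, Chars.classInner_irr_of_ne fun h => hne (hF h), mul_zero]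
  · exact fun h => absurd (Finset.mem_univ _) h

end IsCover

end Cfsg.Agent.Lib.ParityCorr
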