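import Mathlib
import Cfsg.Agent.Lib.ParityCorr.Cover
import Cfsg.Agent.Lib.Glauberman.Action
import Cfsg.Agent.Lib.Coprime.Quotient

/-!
# The parity correspondence over an invariant character
-/

set_option autoImplicit false

namespace Cfsg.Agent.Lib.ParityCorr

open Cfsg
open Cfsg.Agent.Lib
open Cfsg.Agent.Lib.Glauberman (charMult charMult_spec resSub isCharacter_resSub IsInv IsConjBy Normalises)
open scoped ComplexConjugate commutatorElement

universe u

variable {Γ : Type u} [Group Γ] [Finite Γ]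

/-- An abelian section `K ⧸ M` without fixed points, with its complement data. -/
structure Sec (G S C K M H : Subgroup Γ) : Prop where
  hnorm : ∀ s ∈ S, ∀ g ∈ G, s * g * s⁻¹ ∈ G
  cop : (Nat.card G).Coprime (Nat.card S)
  odd : Odd (Nat.card G)
  solv : Group.IsSolvable G
  CG : C ≤ G
  fixC : ∀ s ∈ S, ∀ c ∈ C, s * c = c * s
  fix : ∀ k ∈ K, (∀ s ∈ S, s * k = k * s) → k ∈ M
  MK : M ≤ K
  KG : K ≤ G
  Kn : ∀ g ∈ G, ∀ k ∈ K, g * k * g⁻¹ ∈ K
  Mn : ∀ g ∈ G, ∀ m ∈ M, g * m * g⁻¹ ∈ M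
  KS : ∀ s ∈ S, ∀ k ∈ K, s * k * s⁻¹ ∈ K
  MS : ∀ s ∈ S, ∀ m ∈ M, s * m * s⁻¹ ∈ M
  ab : ∀ a ∈ K, ∀ b ∈ K, a * b * a⁻¹ * b⁻¹ ∈ M
  gKC : ∀ g ∈ G, ∃ k ∈ K, ∃ c ∈ C, g = k * c
  hMC : ∀ x, x ∈ H ↔ ∃ m ∈ M, ∃ c ∈ C, x = m * c
  HG : H ≤ G

variable {G S C K M H : Subgroup Γ}

theorem Sec.MG (P : Sec G S C K M H) : M ≤ G := P.MK.trans P.KG

theorem Sec.MH (P : Sec G S C K M H) : M ≤ H := fun m hm =>
  (P.hMC m).2 ⟨m, hm, 1, C.one_mem, (mul_one m).symm⟩

/-- The parity relation over `θ`. -/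
def ParityOver (G S H M : Subgroup Γ) (hHG : H ≤ G) (hMG : M ≤ G) (hMH : M ≤ H)
    (θ : M → ℂ) : Prop :=
  (∀ χ : IrrCharacter G, IsInv S (χ : G → ℂ) → charMult (resSub hMG (χ : G → ℂ)) θ ≠ 0 →
    ∃! ψ : IrrCharacter H, IsInv S (ψ : H → ℂ) ∧ charMult (resSub hMH (ψ : H → ℂ)) θ ≠ 0 ∧
      Odd (charMult (resSub hHG (χ : G → ℂ)) (ψ : H → ℂ))) ∧
  ∀ ψ : IrrCharacter H, IsInv S (ψ : H → ℂ) → charMult (resSub hMH (ψ : H → ℂ)) θ ≠ 0 →
    ∃! χ : IrrCharacter G, IsInv S (χ : G → ℂ) ∧ charMult (resSub hMG (χ : G → ℂ)) θ ≠ 0 ∧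
      Odd (charMult (resSub hHG (χ : G → ℂ)) (ψ : H → ℂ))

/-- The stabiliser of a character under conjugation. -/
noncomputable def conjStab (θ : IrrCharacter M) : Subgroup Γ :=
  (MulAction.stabilizer (Glauberman.normGroup M) θ).map (Glauberman.normGroup M).subtype

theorem mem_conjStab {θ : IrrCharacter M} {x : Γ} :
    x ∈ conjStab θ ↔ Normalises x M ∧ IsConjBy x (θ : M → ℂ) (θ : M → ℂ) := by
  constructor
  · rintro ⟨γ, hγ, rfl⟩
    refine ⟨γ.2, ?_⟩
    have h := Glauberman.smul_irr_spec γ θ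
    rw [MulAction.mem_stabilizer_iff.1 hγ] at h
    exact h
  · rintro ⟨h1, h2⟩
    exact ⟨⟨x, h1⟩, Glauberman.smul_irr_eq ⟨x, h1⟩ h2, rfl⟩

set_option maxHeartbeats 4000000 in
theorem parity_of_invariant (P : Sec G S C K M H) (θ : IrrCharacter M)
    (hθG : ∀ g ∈ G, IsConjBy g (θ : M → ℂ) (θ : M → ℂ)) (hθS : IsInv S (θ : M → ℂ)) :
    ParityOver G S H M P.HG P.MG P.MH (θ : M → ℂ) := by
  classical
  letI : Fintype M := Fintype.ofFinite M
  -- the ambient group
  set B : Subgroup Γ := G ⊔ S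
  have hGB : G ≤ B := le_sup_left
  have hSB : S ≤ B := le_sup_right
  have hstab : B ≤ conjStab θ := sup_le
    (fun g hg => mem_conjStab.2 ⟨Glauberman.normalises_of_mem (P.Mn g hg), hθG g hg⟩)
    (fun s hs => mem_conjStab.2 ⟨Glauberman.normalises_of_mem (P.MS s hs), hθS s hs⟩)
  have hGn : ∀ x ∈ B, ∀ g ∈ G, x * g * x⁻¹ ∈ G := by
    have h : B ≤ Glauberman.normGroup G := sup_le
      (fun g hg => Glauberman.normalises_of_mem fun y hy => G.mul_mem (G.mul_mem hg hy) (G.inv_mem hg))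
      (fun s hs => Glauberman.normalises_of_mem (P.hnorm s hs))
    exact fun x hx g hg => (h hx g).1 hg
  obtain ⟨E, instE, instF, k, π, i, R, lam, hc⟩ := exists_isCover B M (P.MG.trans hGB)
    (fun x hx m hm => ((mem_conjStab.1 (hstab hx)).1 m).1 hm) θ
    (fun x hx => (mem_conjStab.1 (hstab hx)).2)
  haveI := hc.normal
  let mk : E →* E ⧸ i.range := QuotientGroup.mk' i.range
  let GE : Subgroup E := G.comap π
  let GQ : Subgroup (E ⧸ i.range) := GE.map mk
  have hπB : ∀ e, π e ∈ B := fun e => hc.range_eq ▸ ⟨e, rfl⟩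
  have hGEn : GE.Normal := ⟨fun x hx e => by
    show π (e * x * e⁻¹) ∈ G
    rw [map_mul, map_mul, map_inv]
    exact hGn _ (hπB e) _ hx⟩
  haveI : GQ.Normal := hGEn.map _ (QuotientGroup.mk'_surjective _)
  let qG : GE →* GQ := mk.subgroupMap GE
  have hqG : Function.Surjective qG := MonoidHom.subgroupMap_surjective _ _
  have hqGker : ∀ x : GE, qG x = 1 ↔ (x : E) ∈ i.range := fun x => by
    rw [← QuotientGroup.eq_one_iff (N := i.range)]
    exact ⟨fun h => congrArg Subtype.val h, fun h => Subtype.ext h⟩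
  have hπi : ∀ m : M, π (i m) = (m : Γ) := hc.pi_i
  have hiG : i.range ≤ GE := by
    rintro _ ⟨m, rfl⟩
    show π (i m) ∈ G
    rw [hπi]; exact P.MG m.2
  have hlift : ∀ x ∈ B, ∃ e, π e = x := fun x hx => by
    rw [← hc.range_eq] at hx; exact hx
  -- the operators
  let cE : E →* MulAut GQ := MulAut.conjNormal.comp mk
  have hcE : ∀ (e : E) (x : GQ), (cE e x : E ⧸ i.range) = mk e * x * (mk e)⁻¹ := fun e x =>
    MulAut.conjNormal_apply (mk e) x
  have hker : π.rangeRestrict.ker ≤ cE.ker := fun z hz => by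
    rw [MonoidHom.ker_rangeRestrict] at hz
    refine MulEquiv.ext fun x => Subtype.ext ?_
    rw [hcE]
    obtain ⟨y, hy⟩ := QuotientGroup.mk'_surjective i.range (x : E ⧸ i.range)
    rw [MulAut.one_apply, ← hy]
    show mk z * mk y * (mk z)⁻¹ = mk y
    rw [← map_mul, ← hc.central z hz y, map_mul, mul_inv_cancel_right]
  have hSr : S ≤ π.range := hc.range_eq ▸ hSB
  let σ : S →* MulAut GQ := ((π.rangeRestrict).liftOfSurjective
    π.rangeRestrict_surjective ⟨cE, hker⟩).comp (Subgroup.inclusion hSr)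
  have hσ : ∀ (s : S) (e : E), π e = s → σ s = cE e := fun s e he => by
    show (π.rangeRestrict).liftOfSurjective π.rangeRestrict_surjective ⟨cE, hker⟩
      (Subgroup.inclusion hSr s) = _
    rw [show Subgroup.inclusion hSr s = π.rangeRestrict e from Subtype.ext he.symm]
    exact MonoidHom.liftOfRightInverse_comp_apply _ _ _ _ e
  have hσq : ∀ (s : S) (e : E), π e = s → ∀ x : GE,
      σ s (qG x) = qG ⟨e * x * e⁻¹, hGEn.conj_mem _ x.2 e⟩ := fun s e he x => by
    refine Subtype.ext ?_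
    rw [hσ s e he, hcE]
    show mk e * mk x * (mk e)⁻¹ = mk (e * x * e⁻¹)
    simp
  -- subgroups of the quotient
  let im : Subgroup Γ → Subgroup GQ := fun A => ((A.comap π).subgroupOf GE).map qG
  have him : ∀ A : Subgroup Γ, M ≤ A → ∀ x : GE, qG x ∈ im A ↔ π (x : E) ∈ A := by
    intro A hA x
    refine ⟨fun ⟨y, hy, hyx⟩ => ?_, fun hx => ⟨x, hx, rfl⟩⟩
    have h1 : qG (y⁻¹ * x) = 1 := by rw [map_mul, map_inv, hyx, inv_mul_cancel]
    obtain ⟨m, hm⟩ := (hqGker _).1 h1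
    have h2 : π (x : E) = π (y : E) * m := by
      rw [← hπi m, hm, Subgroup.coe_mul, Subgroup.coe_inv, map_mul, map_inv, mul_inv_cancel_left]
    rw [h2]; exact A.mul_mem hy (hA m.2)
  -- facts about the preimages
  have hfixC : ∀ e y : E, π e ∈ S → π y ∈ C → e * y = y * e := by
    intro e y he hy
    have hpi : π (e * y * e⁻¹ * y⁻¹) = 1 := by
      rw [map_mul, map_mul, map_mul, map_inv, map_inv, P.fixC _ he _ hy, mul_inv_cancel_right,
        mul_inv_cancel]
    set z := e * y * e⁻¹ * y⁻¹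
    have hcz := hc.central z hpi
    have hconj : ∀ j : ℕ, e ^ j * y * (e ^ j)⁻¹ = z ^ j * y := by
      intro j
      induction j with
      | zero => simp
      | succ j ih =>
        calc e ^ (j + 1) * y * (e ^ (j + 1))⁻¹ = e * (e ^ j * y * (e ^ j)⁻¹) * e⁻¹ := by
              rw [pow_succ']; group
          _ = e * (z ^ j * y) * e⁻¹ := by rw [ih]
          _ = z ^ j * (e * y * e⁻¹) := by
              rw [← mul_assoc, (Commute.pow_right (hcz e : Commute e z) j).eq]; group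
          _ = z ^ j * (z * y) := by rw [show e * y * e⁻¹ = z * y by simp [z]]
          _ = z ^ (j + 1) * y := by rw [pow_succ]; exact (mul_assoc _ _ _).symm
    have hn : π (e ^ Nat.card S) = 1 := by
      rw [map_pow]
      exact congrArg Subtype.val (pow_card_eq_one' (x := (⟨π e, he⟩ : S)))
    have hzn : z ^ Nat.card S = 1 := by
      have h := hconj (Nat.card S)
      rw [← hc.central _ hn y, mul_inv_cancel_right] at h
      exact mul_eq_right.1 h.symm
    have hM : (Nat.card M).Coprime (Nat.card S) :=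
      P.cop.of_dvd_left (Subgroup.card_dvd_of_le P.MG)
    have hz1 : z = 1 := orderOf_eq_one_iff.1 (Nat.eq_one_of_dvd_coprimes (hM.mul_left hM)
      (orderOf_dvd_of_pow_eq_one (hc.expo z hpi)) (orderOf_dvd_of_pow_eq_one hzn))
    exact mul_inv_eq_iff_eq_mul.1 (mul_inv_eq_one.1 hz1)
  have hMH := P.MH
  have hMG := P.MG
  have hfixH : ∀ s, ∀ h ∈ im H, σ s h = h := by
    intro s h hh
    obtain ⟨x, rfl⟩ := hqG h
    obtain ⟨m, hm, c, hcC, hxe⟩ := (P.hMC _).1 ((him H hMH x).1 hh)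
    let y : GE := ⟨(i ⟨m, hm⟩)⁻¹ * x, GE.mul_mem (GE.inv_mem (hiG ⟨_, rfl⟩)) x.2⟩
    have hy : π (y : E) ∈ C := by
      show π ((i ⟨m, hm⟩)⁻¹ * x) ∈ C
      rw [map_mul, map_inv, hπi, hxe, inv_mul_cancel_left]; exact hcC
    have hxy : qG x = qG y := by
      rw [← mul_inv_eq_one, ← map_inv, ← map_mul, hqGker]
      show (x : E) * ((i ⟨m, hm⟩)⁻¹ * x)⁻¹ ∈ i.range
      rw [mul_inv_rev, inv_inv, mul_inv_cancel_left]
      exact ⟨_, rfl⟩
    obtain ⟨e, he⟩ := hlift s (hSB s.2)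
    rw [hxy, hσq s e he]
    refine congrArg qG (Subtype.ext ?_)
    show e * (y : E) * e⁻¹ = y
    rw [hfixC e y (he ▸ s.2) hy, mul_inv_cancel_right]
  -- the core data
  have hodd_p : ∀ p : ℕ, p.Prime → p ∣ Nat.card GQ → p ∣ Nat.card G := by
    intro p hp hpd
    haveI : Fact p.Prime := ⟨hp⟩
    obtain ⟨x, hx⟩ := exists_prime_orderOf_dvd_card' (G := GE) p
      (hpd.trans (Subgroup.card_dvd_of_surjective qG hqG))
    let πG : GE →* G := projSub π G
    rcases (Nat.dvd_prime hp).1 (hx ▸ orderOf_map_dvd πG x) with h1 | h1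
    · have hx1 : π (x : E) = 1 := congrArg Subtype.val (orderOf_eq_one_iff.1 h1)
      have h2 : p ∣ Nat.card M * Nat.card M := by
        rw [← hx, ← Subgroup.orderOf_coe]; exact orderOf_dvd_of_pow_eq_one (hc.expo _ hx1)
      exact ((hp.dvd_mul.1 h2).elim id id).trans (Subgroup.card_dvd_of_le hMG)
    · exact h1 ▸ orderOf_dvd_natCard _
  haveI : Fintype S := Fintype.ofFinite S
  have d : CoreData σ (im K) (im M) (im H) :=
    { odd := by
        rw [← Nat.not_even_iff_odd, even_iff_two_dvd]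
        exact fun h => P.odd.not_two_dvd_nat (hodd_p 2 Nat.prime_two h)
      cop := Nat.coprime_of_dvd fun p hp h1 h2 =>
        hp.not_dvd_one (P.cop ▸ Nat.dvd_gcd (hodd_p p hp h2) h1)
      central := by
        intro g z hz
        obtain ⟨x, rfl⟩ := hqG z
        obtain ⟨y, rfl⟩ := hqG g
        have hx := (him M le_rfl x).1 hz
        let w : GE := ⟨(i ⟨_, hx⟩)⁻¹ * x, GE.mul_mem (GE.inv_mem (hiG ⟨_, rfl⟩)) x.2⟩
        have hw : π (w : E) = 1 := by
          show π ((i ⟨_, hx⟩)⁻¹ * x) = 1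
          rw [map_mul, map_inv, hπi, inv_mul_cancel]
        have hxw : qG x = qG w := by
          rw [← mul_inv_eq_one, ← map_inv, ← map_mul, hqGker]
          show (x : E) * ((i ⟨_, hx⟩)⁻¹ * x)⁻¹ ∈ i.range
          rw [mul_inv_rev, inv_inv, mul_inv_cancel_left]
          exact ⟨_, rfl⟩
        rw [hxw, ← map_mul, ← map_mul]
        exact congrArg qG (Subtype.ext (hc.central _ hw (y : E)))
      ZK := Subgroup.map_mono fun x hx => P.MK hx
      ZH := Subgroup.map_mono fun x hx => hMH hx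
      normal := Subgroup.Normal.map ⟨fun x hx g => by
        show π (((g * x * g⁻¹ : GE) : E)) ∈ K
        rw [Subgroup.coe_mul, Subgroup.coe_mul, Subgroup.coe_inv, map_mul, map_mul, map_inv]
        exact P.Kn _ g.2 _ hx⟩ _ hqG
      comm := by
        intro a ha b hb
        obtain ⟨x, rfl⟩ := hqG a
        obtain ⟨y, rfl⟩ := hqG b
        rw [← map_commutatorElement, him M le_rfl, commutatorElement_def]
        simp only [Subgroup.coe_mul, Subgroup.coe_inv, map_mul, map_inv]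
        exact P.ab _ ((him K P.MK x).1 ha) _ ((him K P.MK y).1 hb)
      KS := by
        intro s a ha
        obtain ⟨x, rfl⟩ := hqG a
        obtain ⟨e, he⟩ := hlift s (hSB s.2)
        rw [hσq s e he, him K P.MK]
        show π (e * (x : E) * e⁻¹) ∈ K
        rw [map_mul, map_mul, map_inv, he]
        exact P.KS s s.2 _ ((him K P.MK x).1 ha)
      fixK := by
        intro a ha hfx
        obtain ⟨x, rfl⟩ := hqG a
        have hxK := (him K P.MK x).1 ha
        rw [him M le_rfl]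
        have hcoset : ∀ s ∈ S, (π (x : E))⁻¹ * (s * π (x : E) * s⁻¹) ∈ M := by
          intro s hs
          obtain ⟨e, he⟩ := hlift s (hSB hs)
          have h1 := hfx ⟨s, hs⟩
          rw [hσq ⟨s, hs⟩ e he, eq_comm, ← inv_mul_eq_one, ← map_inv, ← map_mul, hqGker] at h1
          obtain ⟨m, hm⟩ := h1
          have h2 := congrArg π hm
          simp only [Subgroup.coe_mul, Subgroup.coe_inv, map_mul, map_inv, he, hπi] at h2
          rw [← h2]; exact m.2
        obtain ⟨c, hcc, hkc⟩ := Coprime.exists_centralizer_mem_leftCoset (A := S) (N := M)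
          (fun s hs => Subgroup.mem_normalizer_iff.2 (Glauberman.normalises_of_mem (P.MS s hs)))
          (P.cop.of_dvd_left (Subgroup.card_dvd_of_le hMG)).symm
          (Or.inr (Coprime.isSolvable_of_le hMG P.solv)) hcoset
        have hcK : c ∈ K := by
          rw [← mul_inv_cancel_left (π (x : E)) c]; exact K.mul_mem hxK (P.MK hkc)
        have hcM := P.fix c hcK fun s hs => Subgroup.mem_centralizer_iff.1 hcc s hs
        have := M.mul_mem hcM (M.inv_mem hkc)
        rwa [mul_inv_rev, inv_inv, mul_inv_cancel_left] at this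
      fixH := hfixH
      KH := by
        intro g
        obtain ⟨x, rfl⟩ := hqG g
        obtain ⟨a, ha, c, hcC, hxe⟩ := P.gKC _ x.2
        obtain ⟨ek, hek⟩ := hlift a (hGB (P.KG ha))
        let ka : GE := ⟨ek, show π ek ∈ G by rw [hek]; exact P.KG ha⟩
        refine ⟨qG ka, (him K P.MK ka).2 (show π ek ∈ K by rw [hek]; exact ha),
          qG (ka⁻¹ * x), (him H hMH _).2 ?_, by rw [← map_mul, mul_inv_cancel_left]⟩
        rw [Subgroup.coe_mul, Subgroup.coe_inv, map_mul, map_inv,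
          show π (ka : E) = a from hek, hxe, inv_mul_cancel_left]
        exact (P.hMC c).2 ⟨1, M.one_mem, c, hcC, (one_mul c).symm⟩ }
  -- the central character
  have hkerG : ∀ z : π.ker, (z : E) ∈ GE := fun z => by
    show π (z : E) ∈ G
    rw [show π (z : E) = 1 from z.2]; exact G.one_mem
  let r : π.ker →* im M := (qG.comp (Subgroup.inclusion (fun z hz => hkerG ⟨z, hz⟩ : π.ker ≤ GE))).codRestrict (im M)
    fun z => (him M le_rfl _).2 (by
      show π (z : E) ∈ M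
      rw [show π (z : E) = 1 from z.2]; exact M.one_mem)
  have hr : Function.Bijective r := by
    refine ⟨(injective_iff_map_eq_one r).2 fun z hz => ?_, ?_⟩
    · obtain ⟨m, hm⟩ := (hqGker _).1 (congrArg Subtype.val hz)
      have h1 : π (i m) = π (z : E) := congrArg π hm
      rw [hπi, show π (z : E) = 1 from z.2] at h1
      have hm1 : m = 1 := Subtype.ext h1
      refine Subtype.ext ?_
      show (z : E) = 1
      exact hm.symm.trans (by rw [hm1, map_one])
    · rintro ⟨g, hg⟩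
      obtain ⟨x, rfl⟩ := hqG g
      have hx := (him M le_rfl x).1 hg
      refine ⟨⟨(i ⟨_, hx⟩)⁻¹ * x, ?_⟩, ?_⟩
      · rw [MonoidHom.mem_ker, map_mul, map_inv, hπi, inv_mul_cancel]
      · refine Subtype.ext (Eq.symm ?_)
        show qG x = qG _
        rw [← mul_inv_eq_one, ← map_inv, ← map_mul, hqGker]
        show (x : E) * ((i ⟨_, hx⟩)⁻¹ * x)⁻¹ ∈ i.range
        rw [mul_inv_rev, inv_inv, mul_inv_cancel_left]
        exact ⟨_, rfl⟩
  let l : im M →* ℂˣ := lam⁻¹.comp (MulEquiv.ofBijective r hr).symm.toMonoidHom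
  have hl : ∀ z : π.ker, l (r z) = (lam z)⁻¹ := fun z => by
    show (lam ((MulEquiv.ofBijective r hr).symm ((MulEquiv.ofBijective r hr) z)))⁻¹ = _
    rw [MulEquiv.symm_apply_apply]
  -- the two quotient maps
  have hqG' : IsQuot π i G qG :=
    { surj := hqG
      ker := Subgroup.ext fun x => by rw [MonoidHom.mem_ker, hqGker, Subgroup.mem_subgroupOf]
      le := hMG }
  have hHE : H.comap π ≤ GE := fun x hx => P.HG hx
  let qH : H.comap π →* im H := (qG.comp (Subgroup.inclusion hHE)).codRestrict (im H)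
    fun x => (him H hMH _).2 x.2
  have hqH : IsQuot π i H qH :=
    { surj := by
        rintro ⟨g, hg⟩
        obtain ⟨x, rfl⟩ := hqG g
        exact ⟨⟨x, (him H hMH x).1 hg⟩, rfl⟩
      ker := Subgroup.ext fun x => by
        rw [MonoidHom.mem_ker, Subgroup.mem_subgroupOf]
        constructor
        · exact fun h => (hqGker _).1 (congrArg Subtype.val h)
        · exact fun h => Subtype.ext ((hqGker _).2 h)
      le := hMH }
  have hOverG : ∀ β : IrrCharacter GQ,
      OverLam lam qG (β : GQ → ℂ) ↔ Over l (β : GQ → ℂ) := by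
    intro β
    constructor
    · intro h z
      obtain ⟨w, rfl⟩ := hr.2 z
      have h1 := h ⟨w, hkerG w⟩ w.2
      rw [hl, Units.val_inv_eq_inv_val, eq_mul_inv_iff_mul_eq₀ (Units.ne_zero _), mul_comm]
      exact h1
    · intro h x hx
      have h1 := h (r ⟨x, hx⟩)
      rw [hl, Units.val_inv_eq_inv_val, eq_mul_inv_iff_mul_eq₀ (Units.ne_zero _), mul_comm] at h1
      exact h1
  have hOverH : ∀ γ : IrrCharacter (im H), OverLam lam qH (γ : im H → ℂ) ↔
      ∀ z : im M, (γ : im H → ℂ) ⟨z, d.ZH z.2⟩ = (γ : im H → ℂ) 1 * (l z : ℂ) := by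
    intro γ
    constructor
    · intro h z
      obtain ⟨w, rfl⟩ := hr.2 z
      have h1 := h ⟨w, show π (w : E) ∈ H by rw [show π (w : E) = 1 from w.2]; exact H.one_mem⟩ w.2
      rw [hl, Units.val_inv_eq_inv_val, eq_mul_inv_iff_mul_eq₀ (Units.ne_zero _), mul_comm]
      exact h1
    · intro h x hx
      have h1 := h (r ⟨x, hx⟩)
      rw [hl, Units.val_inv_eq_inv_val, eq_mul_inv_iff_mul_eq₀ (Units.ne_zero _), mul_comm] at h1
      exact h1
  have hHB : H ≤ B := P.HG.trans hGB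
  -- invariance
  have hsconj : ∀ (s : S) (e : E) (x : GE), π e = s →
      (projSub π G ⟨e * x * e⁻¹, hGEn.conj_mem _ x.2 e⟩ : Γ) =
        s * (projSub π G x : Γ) * (s : Γ)⁻¹ := fun s e x he => by
    show π (e * (x : E) * e⁻¹) = s * π (x : E) * (s : Γ)⁻¹
    rw [map_mul, map_mul, map_inv, he]
  have hinvG : ∀ (χ : IrrCharacter G) (β : IrrCharacter GQ),
      Lift π R qG (χ : G → ℂ) (β : GQ → ℂ) →
      (IsInv S (χ : G → ℂ) ↔ ∀ s g, (β : GQ → ℂ) (σ s g) = (β : GQ → ℂ) g) := by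
    intro χ β h
    constructor
    · intro hinv s g
      obtain ⟨e, he⟩ := hlift s (hSB s.2)
      let β' : IrrCharacter GQ :=
        ⟨fun g => (β : GQ → ℂ) (σ s g), Clifford.isIrrCharacter_comp_equiv (σ s) β.2⟩
      have h' : Lift π R qG (χ : G → ℂ) (β' : GQ → ℂ) := fun x => by
        show _ = R.character (x : E) * (β : GQ → ℂ) (σ s (qG x))
        rw [hσq s e he, ← Representation.char_conj R (x : E) e,
          ← hinv s s.2 (projSub π G x) (projSub π G ⟨e * x * e⁻¹, hGEn.conj_mem _ x.2 e⟩)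
            (hsconj s e x he)]
        exact h ⟨e * x * e⁻¹, hGEn.conj_mem _ x.2 e⟩
      exact (congrFun (congrArg Subtype.val (hc.lift_beta_unique hqG' h h')) g).symm
    · intro hinv s hs g g' hg'
      obtain ⟨x, rfl⟩ := hc.projSub_surjective hGB g
      obtain ⟨e, he⟩ := hlift s (hSB hs)
      have hx' : g' = projSub π G ⟨e * x * e⁻¹, hGEn.conj_mem _ x.2 e⟩ :=
        Subtype.ext (hg'.trans (hsconj ⟨s, hs⟩ e x he).symm)
      rw [hx', h, h, ← hσq ⟨s, hs⟩ e he, hinv]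
      show R.character (e * (x : E) * e⁻¹) * _ = _
      rw [Representation.char_conj]
  have hinvH : ∀ (ψ : IrrCharacter H) (γ : IrrCharacter (im H)),
      Lift π R qH (ψ : H → ℂ) (γ : im H → ℂ) → IsInv S (ψ : H → ℂ) := by
    intro ψ γ h s hs g g' hg'
    obtain ⟨x, rfl⟩ := hc.projSub_surjective hHB g
    obtain ⟨e, he⟩ := hlift s (hSB hs)
    have hπ' : π (e * (x : E) * e⁻¹) = (g' : Γ) := by
      rw [hg', map_mul, map_mul, map_inv, he]; rfl
    let x' : H.comap π := ⟨e * x * e⁻¹, show π (e * (x : E) * e⁻¹) ∈ H by rw [hπ']; exact g'.2⟩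
    have hx' : g' = projSub π H x' := Subtype.ext hπ'.symm
    have hq : qH x' = qH x := Subtype.ext (Eq.trans (hσq ⟨s, hs⟩ e he ⟨x, hHE x.2⟩).symm
      (hfixH _ _ (qH x).2))
    rw [hx', h, h, hq]
    show R.character (e * (x : E) * e⁻¹) * _ = _
    rw [Representation.char_conj]
  have hmult : ∀ (χ : IrrCharacter G) (β : IrrCharacter GQ) (ψ : IrrCharacter H)
      (γ : IrrCharacter (im H)), Lift π R qG (χ : G → ℂ) (β : GQ → ℂ) →
      Lift π R qH (ψ : H → ℂ) (γ : im H → ℂ) →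
      charMult (Clifford.resFun (im H) (β : GQ → ℂ)) (γ : im H → ℂ) =
        charMult (resSub P.HG (χ : G → ℂ)) (ψ : H → ℂ) := by
    intro χ β ψ γ hβ hγ
    letI : Fintype (im H) := Fintype.ofFinite _
    refine Glauberman.charMult_eq_of ?_
    exact hc.charMult_lift hqH hHB P.HG (im H).subtype (fun x => rfl) hβ hγ
  have hθne : ∀ {A : Subgroup Γ} (hMA : M ≤ A) (χ : IrrCharacter A),
      charMult (resSub hMA (χ : A → ℂ)) (θ : M → ℂ) ≠ 0 ↔
        classInner (resSub hMA (χ : A → ℂ)) (θ : M → ℂ) ≠ 0 := fun hMA χ => by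
    rw [charMult_spec (isCharacter_resSub hMA (Chars.irr_isCharacter χ)) (Chars.irr_isCharacter θ),
      Nat.cast_ne_zero]
  obtain ⟨hdown, hup⟩ := d.parity (l := l)
  refine ⟨fun χ hinv hχθ => ?_, fun ψ hinv hψθ => ?_⟩
  · obtain ⟨β, hβ, hβl⟩ := hc.exists_down hqG' hGB χ ((hθne _ χ).1 hχθ)
    obtain ⟨γ, hγ, hγu⟩ := hdown β ((hOverG β).1 hβl) ((hinvG χ β hβ).1 hinv)
    have hγl : OverLam lam qH (γ : im H → ℂ) := (hOverH γ).2 fun z => by
      letI : Fintype (im H) := Fintype.ofFinite _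
      refine (central_eq_of_constituent β γ ?_ ⟨z, d.ZH z.2⟩ fun g => d.central g z z.2).1
        ((hOverG β).1 hβl z)
      rw [charMult_spec (φ := Clifford.resFun (im H) (β : GQ → ℂ))
        (Chars.isCharacter_restrict _ (Chars.irr_isCharacter β)) (Chars.irr_isCharacter γ),
        Nat.cast_ne_zero]
      exact hγ.pos.ne'
    obtain ⟨ψ, hψ, hψθ⟩ := hc.exists_up hqH hHB γ hγl
    refine ⟨ψ, ⟨hinvH ψ γ hψ, (hθne _ ψ).2 hψθ, hmult χ β ψ γ hβ hψ ▸ hγ⟩, ?_⟩
    rintro ψ' ⟨-, hψ'θ, hodd⟩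
    obtain ⟨γ', hγ', -⟩ := hc.exists_down hqH hHB ψ' ((hθne _ ψ').1 hψ'θ)
    have := hγu γ' (by show Odd _; rw [hmult χ β ψ' γ' hβ hγ']; exact hodd)
    subst this
    exact Subtype.ext (hc.lift_chi_unique hHB hγ' hψ)
  · obtain ⟨γ, hγ, hγl⟩ := hc.exists_down hqH hHB ψ ((hθne _ ψ).1 hψθ)
    obtain ⟨β, ⟨hβl, hβs, hβodd⟩, hβu⟩ := hup γ ((hOverH γ).1 hγl)
    obtain ⟨χ, hχ, hχθ⟩ := hc.exists_up hqG' hGB β ((hOverG β).2 hβl)
    refine ⟨χ, ⟨(hinvG χ β hχ).2 hβs, (hθne _ χ).2 hχθ, hmult χ β ψ γ hχ hγ ▸ hβodd⟩, ?_⟩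
    rintro χ' ⟨hχ's, hχ'θ, hodd⟩
    obtain ⟨β', hβ', hβ'l⟩ := hc.exists_down hqG' hGB χ' ((hθne _ χ').1 hχ'θ)
    have := hβu β' ⟨(hOverG β').1 hβ'l, (hinvG χ' β' hβ').1 hχ's,
      by rw [hmult χ' β' ψ γ hβ' hγ]; exact hodd⟩
    subst this
    exact Subtype.ext (hc.lift_chi_unique hGB hβ' hχ)

end Cfsg.Agent.Lib.ParityCorr
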