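import Mathlib
import Cfsg.Agent.Lib.ParityCorr.Invariant

/-!
# The parity correspondence for an abelian section
-/

set_option autoImplicit false

namespace Cfsg.Agent.Lib.ParityCorr

open Cfsg
open Cfsg.Agent.Lib
open Cfsg.Agent.Lib.Glauberman (charMult resSub IsInv IsConjBy Normalises charMult_trans charMult_conjBy)

universe u

variable {Γ : Type u} [Group Γ] [Finite Γ]

/-- A product of multiplicities bounds a composed multiplicity. -/
theorem charMult_trans_ne_zero {A B D : Subgroup Γ} (h : B ≤ A) (h' : D ≤ B) (χ : IrrCharacter A)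
    (δ : IrrCharacter B) (γ : IrrCharacter D)
    (h1 : charMult (resSub h (χ : A → ℂ)) (δ : B → ℂ) ≠ 0)
    (h2 : charMult (resSub h' (δ : B → ℂ)) (γ : D → ℂ) ≠ 0) :
    charMult (resSub (h'.trans h) (χ : A → ℂ)) (γ : D → ℂ) ≠ 0 := by
  rw [charMult_trans h h' (Chars.irr_isCharacter χ) γ]
  intro h0
  rcases Nat.mul_eq_zero.1 (Finset.sum_eq_zero_iff.1 h0 δ (Finset.mem_univ _)) with h3 | h3
  · exact h1 h3
  · exact h2 h3

theorem exists_middle {A B D : Subgroup Γ} (h : B ≤ A) (h' : D ≤ B) (χ : IrrCharacter A)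
    (γ : IrrCharacter D) (h0 : charMult (resSub (h'.trans h) (χ : A → ℂ)) (γ : D → ℂ) ≠ 0) :
    ∃ δ : IrrCharacter B, charMult (resSub h (χ : A → ℂ)) (δ : B → ℂ) ≠ 0 ∧
      charMult (resSub h' (δ : B → ℂ)) (γ : D → ℂ) ≠ 0 := by
  rw [charMult_trans h h' (Chars.irr_isCharacter χ) γ] at h0
  obtain ⟨δ, -, hδ⟩ := Finset.exists_ne_zero_of_sum_ne_zero h0
  exact ⟨δ, left_ne_zero_of_mul hδ, right_ne_zero_of_mul hδ⟩

/-- The Clifford correspondence, inside an ambient group. -/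
theorem clifford_pair {A T M : Subgroup Γ} (hTA : T ≤ A) (hMT : M ≤ T)
    (hn : ∀ a ∈ A, ∀ m ∈ M, a * m * a⁻¹ ∈ M) (θ : IrrCharacter M)
    (hT : ∀ a ∈ A, (a ∈ T ↔ IsConjBy a (θ : M → ℂ) (θ : M → ℂ)))
    (χ : IrrCharacter A) (η : IrrCharacter T)
    (h1 : charMult (resSub hTA (χ : A → ℂ)) (η : T → ℂ) ≠ 0)
    (h2 : charMult (resSub hMT (η : T → ℂ)) (θ : M → ℂ) ≠ 0) :
    charMult (resSub hTA (χ : A → ℂ)) (η : T → ℂ) = 1 ∧
      (∀ η' : IrrCharacter T, charMult (resSub hTA (χ : A → ℂ)) (η' : T → ℂ) ≠ 0 →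
        charMult (resSub hMT (η' : T → ℂ)) (θ : M → ℂ) ≠ 0 → η' = η) ∧
      ∀ χ' : IrrCharacter A, charMult (resSub hTA (χ' : A → ℂ)) (η : T → ℂ) ≠ 0 → χ' = χ := by
  classical
  have hMA := hMT.trans hTA
  letI : Fintype A := Fintype.ofFinite A
  letI : Fintype T := Fintype.ofFinite T
  letI : Fintype M := Fintype.ofFinite M
  let N : Subgroup A := M.subgroupOf A
  let T' : Subgroup A := T.subgroupOf A
  haveI : N.Normal := ⟨fun m hm a => hn a a.2 _ hm⟩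
  letI : Fintype N := Fintype.ofFinite N
  letI : Fintype T' := Fintype.ofFinite T'
  let eN : N ≃* M := Subgroup.subgroupOfEquivOfLe hMA
  let eT : T' ≃* T := Subgroup.subgroupOfEquivOfLe hTA
  let θ' : N → ℂ := fun x => (θ : M → ℂ) (eN x)
  have hθ' : IsIrrCharacter N θ' := Clifford.isIrrCharacter_comp_equiv eN θ.2
  have hNT : N ≤ T' := fun x hx => hMT hx
  have hT' : ∀ a : A, a ∈ T' ↔ Clifford.conjFun a θ' = θ' := by
    intro a
    have hna : Normalises (a : Γ) M := Glauberman.normalises_of_mem (hn a a.2)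
    show (a : Γ) ∈ T ↔ _
    rw [hT a a.2, Glauberman.isConjBy_iff hna]
    constructor
    · intro h
      funext x
      exact (congrArg (θ : M → ℂ) (Subtype.ext rfl)).trans (h (eN x))
    · intro h x
      have hx := congrFun h (eN.symm x)
      refine Eq.trans ?_ (hx.trans (congrArg (θ : M → ℂ) (eN.apply_symm_apply x)))
      exact congrArg (θ : M → ℂ) (Subtype.ext rfl)
  have hin : ∀ (χ : IrrCharacter A) (η : IrrCharacter T),
      classInner (Clifford.resFun T' (χ : A → ℂ)) (fun x => (η : T → ℂ) (eT x)) =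
        (charMult (resSub hTA (χ : A → ℂ)) (η : T → ℂ) : ℂ) := fun χ η =>
    Glauberman.classInner_pullSub hTA (Chars.irr_isCharacter χ) η
  have hov : ∀ η : IrrCharacter T,
      classInner (Clifford.resTo hNT (fun x => (η : T → ℂ) (eT x))) θ' =
        (charMult (resSub hMT (η : T → ℂ)) (θ : M → ℂ) : ℂ) := fun η => by
    rw [← Glauberman.charMult_spec (Glauberman.isCharacter_resSub hMT (Chars.irr_isCharacter η))
      (Chars.irr_isCharacter θ), ← Clifford.classInner_comp_equiv eN (resSub hMT (η : T → ℂ))]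
    rfl
  have hirr : ∀ η : IrrCharacter T, IsIrrCharacter T' (fun x => (η : T → ℂ) (eT x)) := fun η =>
    Clifford.isIrrCharacter_comp_equiv eT η.2
  obtain ⟨hind, -, hone, huniq⟩ := Clifford.clifford_induced hθ' hT' hNT χ.2 (hirr η)
    (by rw [hin, Nat.cast_ne_zero]; exact h1) (by rw [hov, Nat.cast_ne_zero]; exact h2)
  refine ⟨?_, fun η' h1' h2' => ?_, fun χ' h' => ?_⟩
  · rw [hin] at hone
    exact_mod_cast hone
  · have := huniq _ (hirr η') (by rw [hin, Nat.cast_ne_zero]; exact h1')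
      (by rw [hov, Nat.cast_ne_zero]; exact h2')
    refine Subtype.ext (funext fun x => ?_)
    obtain ⟨y, rfl⟩ := eT.surjective x
    exact congrFun this y
  · have := (Clifford.clifford_induced hθ' hT' hNT χ'.2 (hirr η)
      (by rw [hin, Nat.cast_ne_zero]; exact h') (by rw [hov, Nat.cast_ne_zero]; exact h2)).1
    exact Subtype.ext (this.symm.trans hind)

variable {G S C K M H : Subgroup Γ}

theorem Sec.fix_coset (P : Sec G S C K M H) {N : Subgroup Γ} (hNG : N ≤ G)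
    (hNS : ∀ s ∈ S, ∀ n ∈ N, s * n * s⁻¹ ∈ N) {k : Γ}
    (hk : ∀ s ∈ S, k⁻¹ * (s * k * s⁻¹) ∈ N) :
    ∃ c, (∀ s ∈ S, s * c = c * s) ∧ k⁻¹ * c ∈ N := by
  obtain ⟨c, hcc, hc⟩ := Coprime.exists_centralizer_mem_leftCoset (A := S) (N := N)
    (fun s hs => Subgroup.mem_normalizer_iff.2 (Glauberman.normalises_of_mem (hNS s hs)))
    (P.cop.of_dvd_left (Subgroup.card_dvd_of_le hNG)).symm
    (Or.inr (Coprime.isSolvable_of_le hNG P.solv)) hk
  exact ⟨c, fun s hs => Subgroup.mem_centralizer_iff.1 hcc s hs, hc⟩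

/-- The inertia group of an invariant character inherits the data. -/
theorem Sec.stab (P : Sec G S C K M H) (θ : IrrCharacter M) (hθS : IsInv S (θ : M → ℂ)) :
    Sec (G ⊓ conjStab θ) S (C ⊓ conjStab θ) (K ⊓ conjStab θ) M (H ⊓ conjStab θ) := by
  have hMs : M ≤ conjStab θ := fun m hm => mem_conjStab.2
    ⟨Glauberman.normalises_of_mem (P.Mn m (P.MG hm)),
      Glauberman.isConjBy_self_of_mem (Chars.irr_isClassFunction θ) hm⟩
  have hSs : S ≤ conjStab θ := fun s hs => mem_conjStab.2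
    ⟨Glauberman.normalises_of_mem (P.MS s hs), hθS s hs⟩
  have hSc : ∀ s ∈ S, ∀ x ∈ conjStab θ, s * x * s⁻¹ ∈ conjStab θ := fun s hs x hx =>
    (conjStab θ).mul_mem ((conjStab θ).mul_mem (hSs hs) hx) ((conjStab θ).inv_mem (hSs hs))
  have hle : G ⊓ conjStab θ ≤ G := inf_le_left
  refine
    { hnorm := fun s hs g hg => ⟨P.hnorm s hs g hg.1, hSc s hs g hg.2⟩
      cop := P.cop.of_dvd_left (Subgroup.card_dvd_of_le hle)
      odd := P.odd.of_dvd_nat (Subgroup.card_dvd_of_le hle)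
      solv := Coprime.isSolvable_of_le hle P.solv
      CG := inf_le_inf_right _ P.CG
      fixC := fun s hs c hc => P.fixC s hs c hc.1
      fix := fun k hk h => P.fix k hk.1 h
      MK := le_inf P.MK hMs
      KG := inf_le_inf_right _ P.KG
      Kn := fun g hg k hk => ⟨P.Kn g hg.1 k hk.1,
        (conjStab θ).mul_mem ((conjStab θ).mul_mem hg.2 hk.2) ((conjStab θ).inv_mem hg.2)⟩
      Mn := fun g hg m hm => P.Mn g hg.1 m hm
      KS := fun s hs k hk => ⟨P.KS s hs k hk.1, hSc s hs k hk.2⟩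
      MS := P.MS
      ab := fun a ha b hb => P.ab a ha.1 b hb.1
      gKC := fun g hg => ?_
      hMC := fun x => ?_
      HG := inf_le_inf_right _ P.HG }
  · obtain ⟨k, hk, c, hc, rfl⟩ := P.gKC g hg.1
    suffices hk' : k ∈ conjStab θ by
      refine ⟨k, ⟨hk, hk'⟩, c, ⟨hc, ?_⟩, rfl⟩
      have := (conjStab θ).mul_mem ((conjStab θ).inv_mem hk') hg.2
      rwa [inv_mul_cancel_left] at this
    obtain ⟨c', hc', hkc⟩ := P.fix_coset (N := K ⊓ conjStab θ) (inf_le_left.trans P.KG)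
      (fun s hs n hn => ⟨P.KS s hs n hn.1, hSc s hs n hn.2⟩) (k := k) fun s hs => by
      refine ⟨K.mul_mem (K.inv_mem hk) (P.KS s hs k hk), ?_⟩
      have h := (conjStab θ).mul_mem hg.2 ((conjStab θ).inv_mem (hSc s hs _ hg.2))
      have e : s * (k * c) * s⁻¹ = s * k * s⁻¹ * c := by
        calc s * (k * c) * s⁻¹ = s * k * (c * s⁻¹) := by group
          _ = s * k * (s⁻¹ * (s * c) * s⁻¹) := by group
          _ = s * k * (s⁻¹ * (c * s) * s⁻¹) := by rw [P.fixC s hs c hc]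
          _ = _ := by group
      rw [e, show k * c * (s * k * s⁻¹ * c)⁻¹ = k * (s * k * s⁻¹)⁻¹ by group] at h
      have h2 := (conjStab θ).inv_mem h
      rw [mul_inv_rev, inv_inv] at h2
      -- `(s k s⁻¹) k⁻¹` fixes `θ`; so does its conjugate by `k`, as `[K, K] ≤ M`
      have h3 := hMs (P.ab k⁻¹ (K.inv_mem hk) (s * k * s⁻¹) (P.KS s hs k hk))
      rw [inv_inv] at h3
      have h4 := (conjStab θ).mul_mem h3 h2
      rw [show k⁻¹ * (s * k * s⁻¹) * k * (s * k * s⁻¹)⁻¹ * (s * k * s⁻¹ * k⁻¹) =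
        k⁻¹ * (s * k * s⁻¹) by group] at h4
      exact h4
    have hcK : c' ∈ K := by
      rw [← mul_inv_cancel_left k c']; exact K.mul_mem hk hkc.1
    have hcs := hMs (P.fix c' hcK hc')
    have := (conjStab θ).mul_mem hcs ((conjStab θ).inv_mem hkc.2)
    rwa [mul_inv_rev, inv_inv, mul_inv_cancel_left] at this
  · constructor
    · rintro ⟨hxH, hxs⟩
      obtain ⟨m, hm, c, hc, rfl⟩ := (P.hMC x).1 hxH
      refine ⟨m, hm, c, ⟨hc, ?_⟩, rfl⟩
      have := (conjStab θ).mul_mem ((conjStab θ).inv_mem (hMs hm)) hxs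
      rwa [inv_mul_cancel_left] at this
    · rintro ⟨m, hm, c, hc, rfl⟩
      exact ⟨(P.hMC _).2 ⟨m, hm, c, hc.1, rfl⟩, (conjStab θ).mul_mem (hMs hm) hc.2⟩

/-- The parity correspondence over an invariant character of `M`. -/
theorem parity_over (P : Sec G S C K M H) (θ : IrrCharacter M) (hθS : IsInv S (θ : M → ℂ)) :
    ParityOver G S H M P.HG P.MG P.MH (θ : M → ℂ) := by
  classical
  have P' := P.stab θ hθS
  set T := G ⊓ conjStab θ
  set U := H ⊓ conjStab θ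
  have hTG : T ≤ G := inf_le_left
  have hUH : U ≤ H := inf_le_left
  have hUT : U ≤ T := P'.HG
  have hMT : M ≤ T := P'.MG
  have hMU : M ≤ U := P'.MH
  obtain ⟨hdown, hup⟩ := parity_of_invariant P' θ (fun g hg => (mem_conjStab.1 hg.2).2) hθS
  have hTiff : ∀ a ∈ G, (a ∈ T ↔ IsConjBy a (θ : M → ℂ) (θ : M → ℂ)) := fun a ha =>
    ⟨fun h => (mem_conjStab.1 h.2).2, fun h =>
      ⟨ha, mem_conjStab.2 ⟨Glauberman.normalises_of_mem (P.Mn a ha), h⟩⟩⟩
  have hUiff : ∀ a ∈ H, (a ∈ U ↔ IsConjBy a (θ : M → ℂ) (θ : M → ℂ)) := fun a ha =>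
    ⟨fun h => (mem_conjStab.1 h.2).2, fun h =>
      ⟨ha, mem_conjStab.2 ⟨Glauberman.normalises_of_mem (P.Mn a (P.HG ha)), h⟩⟩⟩
  have cG := fun χ η => clifford_pair hTG hMT P.Mn θ hTiff χ η
  have cH := fun ψ μ => clifford_pair hUH hMU (fun a ha => P.Mn a (P.HG ha)) θ hUiff ψ μ
  have hSG : ∀ s ∈ S, Normalises s G := fun s hs => Glauberman.normalises_of_mem (P.hnorm s hs)
  have hST : ∀ s ∈ S, Normalises s T := fun s hs => Glauberman.normalises_of_mem (P'.hnorm s hs)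
  have hSM : ∀ s ∈ S, Normalises s M := fun s hs => Glauberman.normalises_of_mem (P.MS s hs)
  have hSsub : ∀ {A : Subgroup Γ}, A ≤ G → (∀ x, x ∈ A ↔ ∃ m ∈ M, ∃ c ∈ (C : Set Γ) ∩ A, x = m * c) →
      ∀ s ∈ S, Normalises s A := by
    intro A _ hA s hs
    refine Glauberman.normalises_of_mem fun x hx => ?_
    obtain ⟨m, hm, c, hc, rfl⟩ := (hA x).1 hx
    refine (hA _).2 ⟨s * m * s⁻¹, P.MS s hs m hm, c, hc, ?_⟩
    calc s * (m * c) * s⁻¹ = s * m * s⁻¹ * ((s * c) * s⁻¹) := by group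
      _ = s * m * s⁻¹ * ((c * s) * s⁻¹) := by rw [P.fixC s hs c hc.1]
      _ = _ := by group
  have hSH : ∀ s ∈ S, Normalises s H := hSsub P.HG fun x => by
    rw [P.hMC]
    constructor
    · rintro ⟨m, hm, c, hc, rfl⟩
      exact ⟨m, hm, c, ⟨hc, (P.hMC c).2 ⟨1, M.one_mem, c, hc, (one_mul c).symm⟩⟩, rfl⟩
    · rintro ⟨m, hm, c, hc, rfl⟩; exact ⟨m, hm, c, hc.1, rfl⟩
  have hSU : ∀ s ∈ S, Normalises s U := hSsub (hUH.trans P.HG) fun x => by
    rw [P'.hMC]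
    constructor
    · rintro ⟨m, hm, c, hc, rfl⟩
      exact ⟨m, hm, c, ⟨hc.1, (P'.hMC c).2 ⟨1, M.one_mem, c, hc, (one_mul c).symm⟩⟩, rfl⟩
    · rintro ⟨m, hm, c, hc, rfl⟩; exact ⟨m, hm, c, ⟨hc.1, hc.2.2⟩, rfl⟩
  -- invariance passes through the correspondence
  have hinv : ∀ {A D : Subgroup Γ} (hDA : D ≤ A) (hMD : M ≤ D),
      (∀ s ∈ S, Normalises s A) → (∀ s ∈ S, Normalises s D) →
      (∀ (χ : IrrCharacter A) (η : IrrCharacter D),
        charMult (resSub hDA (χ : A → ℂ)) (η : D → ℂ) ≠ 0 →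
        charMult (resSub hMD (η : D → ℂ)) (θ : M → ℂ) ≠ 0 →
        charMult (resSub hDA (χ : A → ℂ)) (η : D → ℂ) = 1 ∧
        (∀ η' : IrrCharacter D, charMult (resSub hDA (χ : A → ℂ)) (η' : D → ℂ) ≠ 0 →
          charMult (resSub hMD (η' : D → ℂ)) (θ : M → ℂ) ≠ 0 → η' = η) ∧
        ∀ χ' : IrrCharacter A, charMult (resSub hDA (χ' : A → ℂ)) (η : D → ℂ) ≠ 0 → χ' = χ) →
      ∀ (χ : IrrCharacter A) (η : IrrCharacter D),
        charMult (resSub hDA (χ : A → ℂ)) (η : D → ℂ) ≠ 0 →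
        charMult (resSub hMD (η : D → ℂ)) (θ : M → ℂ) ≠ 0 →
        (IsInv S (χ : A → ℂ) ↔ IsInv S (η : D → ℂ)) := by
    intro A D hDA hMD hA hD hc χ η h1 h2
    obtain ⟨-, hu, hu'⟩ := hc χ η h1 h2
    constructor
    · intro h s hs
      obtain ⟨η', hη'⟩ := Glauberman.exists_isConjBy (hD s hs) η
      have e : η' = η := hu η'
        (by rw [charMult_conjBy (hA s hs) (hD s hs) hDA (h s hs) hη']; exact h1)
        (by rw [charMult_conjBy (hD s hs) (hSM s hs) hMD hη' (hθS s hs)]; exact h2)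
      exact e ▸ hη'
    · intro h s hs
      obtain ⟨χ', hχ'⟩ := Glauberman.exists_isConjBy (hA s hs) χ
      have e : χ' = χ := hu' χ'
        (by rw [charMult_conjBy (hA s hs) (hD s hs) hDA hχ' (h s hs)]; exact h1)
      exact e ▸ hχ'
  have iG := hinv hTG hMT hSG hST cG
  have iH := hinv hUH hMU hSH hSU cH
  -- multiplicities
  have hmult : ∀ (χ : IrrCharacter G) (η : IrrCharacter T) (ψ : IrrCharacter H) (μ : IrrCharacter U),
      charMult (resSub hTG (χ : G → ℂ)) (η : T → ℂ) ≠ 0 →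
      charMult (resSub hMT (η : T → ℂ)) (θ : M → ℂ) ≠ 0 →
      charMult (resSub hUH (ψ : H → ℂ)) (μ : U → ℂ) ≠ 0 →
      charMult (resSub hMU (μ : U → ℂ)) (θ : M → ℂ) ≠ 0 →
      charMult (resSub P.HG (χ : G → ℂ)) (ψ : H → ℂ) =
        charMult (resSub hUT (η : T → ℂ)) (μ : U → ℂ) := by
    intro χ η ψ μ h1 h2 h3 h4
    obtain ⟨hη1, hηu, -⟩ := cG χ η h1 h2
    obtain ⟨hμ1, -, hψu⟩ := cH ψ μ h3 h4
    have e1 := charMult_trans hTG hUT (Chars.irr_isCharacter χ) μ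
    have e2 := charMult_trans P.HG hUH (Chars.irr_isCharacter χ) μ
    rw [Finset.sum_eq_single η (fun δ _ hne => by
        by_contra h0
        exact hne (hηu δ (left_ne_zero_of_mul h0)
          (charMult_trans_ne_zero hUT hMU δ μ θ (right_ne_zero_of_mul h0) h4)))
      (fun h => absurd (Finset.mem_univ _) h), hη1, one_mul] at e1
    rw [Finset.sum_eq_single ψ (fun ψ' _ hne => by
        by_contra h0
        exact hne (hψu ψ' (right_ne_zero_of_mul h0)))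
      (fun h => absurd (Finset.mem_univ _) h), hμ1, mul_one] at e2
    exact e2.symm.trans e1
  refine ⟨fun χ hχS hχθ => ?_, fun ψ hψS hψθ => ?_⟩
  · obtain ⟨η, h1, h2⟩ := exists_middle hTG hMT χ θ hχθ
    obtain ⟨μ, ⟨hμS, h4, hodd⟩, hμu⟩ := hdown η ((iG χ η h1 h2).1 hχS) h2
    obtain ⟨ψ, h3⟩ := Glauberman.exists_above hUH μ
    refine ⟨ψ, ⟨(iH ψ μ h3 h4).2 hμS, charMult_trans_ne_zero hUH hMU ψ μ θ h3 h4,
      by rw [hmult χ η ψ μ h1 h2 h3 h4]; exact hodd⟩, ?_⟩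
    rintro ψ' ⟨hψ'S, hψ'θ, hodd'⟩
    obtain ⟨μ', h3', h4'⟩ := exists_middle hUH hMU ψ' θ hψ'θ
    have e : μ' = μ := hμu μ' ⟨(iH ψ' μ' h3' h4').1 hψ'S, h4',
      by rw [← hmult χ η ψ' μ' h1 h2 h3' h4']; exact hodd'⟩
    exact (cH ψ μ h3 h4).2.2 ψ' (e ▸ h3')
  · obtain ⟨μ, h3, h4⟩ := exists_middle hUH hMU ψ θ hψθ
    obtain ⟨η, ⟨hηS, h2, hodd⟩, hηu⟩ := hup μ ((iH ψ μ h3 h4).1 hψS) h4
    obtain ⟨χ, h1⟩ := Glauberman.exists_above hTG η
    refine ⟨χ, ⟨(iG χ η h1 h2).2 hηS, charMult_trans_ne_zero hTG hMT χ η θ h1 h2,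
      by rw [hmult χ η ψ μ h1 h2 h3 h4]; exact hodd⟩, ?_⟩
    rintro χ' ⟨hχ'S, hχ'θ, hodd'⟩
    obtain ⟨η', h1', h2'⟩ := exists_middle hTG hMT χ' θ hχ'θ
    have e : η' = η := hηu η' ⟨(iG χ' η' h1' h2').1 hχ'S, h2',
      by rw [← hmult χ' η' ψ μ h1' h2' h3 h4]; exact hodd'⟩
    exact (cG χ η h1 h2).2.2 χ' (e ▸ h1')

/-- The parity correspondence. -/
theorem parity_main (P : Sec G S C K M H) :
    (∀ χ : IrrCharacter G, IsInv S (χ : G → ℂ) →
      ∃! ψ : IrrCharacter H, IsInv S (ψ : H → ℂ) ∧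
        Odd (charMult (resSub P.HG (χ : G → ℂ)) (ψ : H → ℂ))) ∧
    ∀ ψ : IrrCharacter H, IsInv S (ψ : H → ℂ) →
      ∃! χ : IrrCharacter G, IsInv S (χ : G → ℂ) ∧
        Odd (charMult (resSub P.HG (χ : G → ℂ)) (ψ : H → ℂ)) := by
  classical
  have hMn : ∀ h ∈ H, ∀ m ∈ M, h * m * h⁻¹ ∈ M := fun h hh => P.Mn h (P.HG hh)
  have hHS : ∀ s ∈ S, ∀ h ∈ H, s * h * s⁻¹ ∈ H := by
    intro s hs x hx
    obtain ⟨m, hm, c, hc, rfl⟩ := (P.hMC x).1 hx
    refine (P.hMC _).2 ⟨s * m * s⁻¹, P.MS s hs m hm, c, hc, ?_⟩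
    calc s * (m * c) * s⁻¹ = s * m * s⁻¹ * ((s * c) * s⁻¹) := by group
      _ = s * m * s⁻¹ * ((c * s) * s⁻¹) := by rw [P.fixC s hs c hc]
      _ = _ := by group
  have belowG : ∀ χ : IrrCharacter G, IsInv S (χ : G → ℂ) →
      ∃ θ : IrrCharacter M, charMult (resSub P.MG (χ : G → ℂ)) (θ : M → ℂ) ≠ 0 ∧
        IsInv S (θ : M → ℂ) := fun χ hχ => by
    haveI : (M.subgroupOf G).Normal := ⟨fun m hm g => P.Mn g g.2 _ hm⟩
    haveI := P.solv
    exact Glauberman.exists_invariant_below P.MG P.Mn P.hnorm P.MS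
      (P.cop.of_dvd_left ((M.subgroupOf G).index_dvd_card)) (Or.inr inferInstance) χ hχ
  have belowH : ∀ ψ : IrrCharacter H, IsInv S (ψ : H → ℂ) →
      ∃ θ : IrrCharacter M, charMult (resSub P.MH (ψ : H → ℂ)) (θ : M → ℂ) ≠ 0 ∧
        IsInv S (θ : M → ℂ) := fun ψ hψ => by
    haveI : (M.subgroupOf H).Normal := ⟨fun m hm g => hMn g g.2 _ hm⟩
    haveI := Coprime.isSolvable_of_le P.HG P.solv
    exact Glauberman.exists_invariant_below P.MH hMn hHS P.MS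
      ((P.cop.of_dvd_left (Subgroup.card_dvd_of_le P.HG)).of_dvd_left
        ((M.subgroupOf H).index_dvd_card)) (Or.inr inferInstance) ψ hψ
  -- invariant constituents are conjugate in `H`
  have conjH : ∀ (χ : IrrCharacter G) (θ θ' : IrrCharacter M),
      charMult (resSub P.MG (χ : G → ℂ)) (θ : M → ℂ) ≠ 0 →
      charMult (resSub P.MG (χ : G → ℂ)) (θ' : M → ℂ) ≠ 0 →
      IsInv S (θ : M → ℂ) → IsInv S (θ' : M → ℂ) →
      ∃ c ∈ C, IsConjBy c (θ : M → ℂ) (θ' : M → ℂ) := by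
    intro χ θ θ' h h' hθ hθ'
    obtain ⟨g, hg, hgθ⟩ := Glauberman.exists_conj_of_constituent P.MG P.Mn χ θ θ' h h'
    have hng : ∀ g ∈ G, Normalises g M := fun g hg => Glauberman.normalises_of_mem (P.Mn g hg)
    have hnorm' : ∀ s ∈ S, ∀ n ∈ G ⊓ conjStab θ, s * n * s⁻¹ ∈ G ⊓ conjStab θ :=
      (P.stab θ hθ).hnorm
    obtain ⟨c', hc', hgc⟩ := P.fix_coset (N := G ⊓ conjStab θ) inf_le_left hnorm' (k := g)
      fun s hs => by
      have hs' : Normalises s M := Glauberman.normalises_of_mem (P.MS s hs)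
      have hG1 : g⁻¹ * (s * g * s⁻¹) ∈ G := G.mul_mem (G.inv_mem hg) (P.hnorm s hs g hg)
      refine ⟨hG1, mem_conjStab.2 ⟨hng _ hG1, ?_⟩⟩
      -- transport `θ` by `s⁻¹`, `g`, `s`, and back by `g⁻¹`
      have hinv : IsConjBy s⁻¹ (θ : M → ℂ) (θ : M → ℂ) := hθ s⁻¹ (S.inv_mem hs)
      have h1 := IsConjBy.trans hs'.inv hinv hgθ
      have h2 := IsConjBy.trans ((hng g hg).mul hs'.inv) h1 (hθ' s hs)
      have hback : IsConjBy g⁻¹ (θ' : M → ℂ) (θ : M → ℂ) := fun x x' hx =>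
        (hgθ x' x (by rw [hx]; group)).symm
      have h3 := IsConjBy.trans (hs'.mul ((hng g hg).mul hs'.inv)) h2 hback
      rwa [← mul_assoc s g s⁻¹] at h3
    have hcG : c' ∈ G := by rw [← mul_inv_cancel_left g c']; exact G.mul_mem hg hgc.1
    have hcθ : IsConjBy c' (θ : M → ℂ) (θ' : M → ℂ) := by
      have h1 := IsConjBy.trans (hng _ hgc.1) (mem_conjStab.1 hgc.2).2 hgθ
      rwa [mul_inv_cancel_left] at h1
    -- a centralised element of `G` lies in `M C`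
    obtain ⟨k, hk, c, hc, rfl⟩ := P.gKC c' hcG
    have hkM : k ∈ M := P.fix k hk fun s hs => by
      have e := hc' s hs
      calc s * k = s * (k * c) * c⁻¹ := by group
        _ = k * c * s * c⁻¹ := by rw [e]
        _ = k * (c * s) * c⁻¹ := by group
        _ = k * (s * c) * c⁻¹ := by rw [P.fixC s hs c hc]
        _ = k * s := by group
    refine ⟨c, hc, ?_⟩
    have hk1 : IsConjBy k⁻¹ (θ' : M → ℂ) (θ' : M → ℂ) :=
      Glauberman.isConjBy_self_of_mem (Chars.irr_isClassFunction θ') (M.inv_mem hkM)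
    have h5 := IsConjBy.trans (hng _ hcG) hcθ hk1
    rwa [inv_mul_cancel_left] at h5
  have overH : ∀ (χ : IrrCharacter G) (ψ : IrrCharacter H) (θ : IrrCharacter M),
      IsInv S (ψ : H → ℂ) → Odd (charMult (resSub P.HG (χ : G → ℂ)) (ψ : H → ℂ)) →
      charMult (resSub P.MG (χ : G → ℂ)) (θ : M → ℂ) ≠ 0 → IsInv S (θ : M → ℂ) →
      charMult (resSub P.MH (ψ : H → ℂ)) (θ : M → ℂ) ≠ 0 := by
    intro χ ψ θ hψ hodd hθ hθS
    obtain ⟨θ', hθ', hθ'S⟩ := belowH ψ hψ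
    obtain ⟨c, hc, hcc⟩ := conjH χ θ' θ
      (charMult_trans_ne_zero P.HG P.MH χ ψ θ' hodd.pos.ne' hθ') hθ hθ'S hθS
    have hcH : c ∈ H := (P.hMC c).2 ⟨1, M.one_mem, c, hc, (one_mul c).symm⟩
    rw [charMult_conjBy (Glauberman.normalises_of_mem fun y hy =>
        H.mul_mem (H.mul_mem hcH hy) (H.inv_mem hcH))
      (Glauberman.normalises_of_mem (hMn c hcH)) P.MH
      (Glauberman.isConjBy_self_of_mem (Chars.irr_isClassFunction ψ) hcH) hcc]
    exact hθ'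
  refine ⟨fun χ hχ => ?_, fun ψ hψ => ?_⟩
  · obtain ⟨θ, hθ, hθS⟩ := belowG χ hχ
    obtain ⟨ψ, ⟨hψS, -, hodd⟩, hu⟩ := (parity_over P θ hθS).1 χ hχ hθ
    exact ⟨ψ, ⟨hψS, hodd⟩, fun ψ' h' => hu ψ' ⟨h'.1, overH χ ψ' θ h'.1 h'.2 hθ hθS, h'.2⟩⟩
  · obtain ⟨θ, hθ, hθS⟩ := belowH ψ hψ
    obtain ⟨χ, ⟨hχS, -, hodd⟩, hu⟩ := (parity_over P θ hθS).2 ψ hψ hθ
    exact ⟨χ, ⟨hχS, hodd⟩, fun χ' h' => hu χ'
      ⟨h'.1, charMult_trans_ne_zero P.HG P.MH χ' ψ θ h'.2.pos.ne' hθ, h'.2⟩⟩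

end Cfsg.Agent.Lib.ParityCorr
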